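import Groth.Prelude.Def_Red2
import Mathlib.LinearAlgebra.SymmetricAlgebra.Basis
import Mathlib.RingTheory.Smooth.Basic
import Mathlib.AlgebraicGeometry.Morphisms.Smooth

/-!
# The additive group over any base is smooth
-/

set_option autoImplicit false
set_option backward.isDefEq.respectTransparency.types false
set_option linter.style.haveILetI false

universe u

open CategoryTheory Limits AlgebraicGeometry

noncomputable section

namespace Groth.Agent.NeronModel27

/-- The additive group over the integers is smooth. -/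
theorem smooth_gaZ : Smooth (Red.GaZ.{u}).hom := by
  let e : SymmetricAlgebra (ULift.{u} ℤ) (ULift.{u} ℤ) ≃ₐ[ULift.{u} ℤ] MvPolynomial (Fin 1) (ULift.{u} ℤ) :=
    SymmetricAlgebra.equivMvPolynomial (Module.Basis.singleton (Fin 1) (ULift.{u} ℤ))
  haveI : Algebra.Smooth (ULift.{u} ℤ) (SymmetricAlgebra (ULift.{u} ℤ) (ULift.{u} ℤ)) := by
    haveI : Algebra.Smooth (ULift.{u} ℤ) (MvPolynomial (Fin 1) (ULift.{u} ℤ)) :=
      ⟨inferInstance, inferInstance⟩
    exact Algebra.Smooth.of_equiv e.symm
  show Smooth (Spec.map (CommRingCat.ofHom (algebraMap (ULift.{u} ℤ) (SymmetricAlgebra (ULift.{u} ℤ) (ULift.{u} ℤ)))))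
  exact (HasRingHomProperty.Spec_iff (P := @Smooth)).2 (RingHom.smooth_algebraMap.2 inferInstance)

/-- The additive group over a base is smooth. -/
theorem smooth_ga (S : Scheme.{u}) : Smooth (Red.Ga S).hom := by
  haveI := smooth_gaZ.{u}
  exact MorphismProperty.pullback_snd _ _ ‹Smooth (Red.GaZ.{u}).hom›

/-- The additive group over an affine base is affine. -/
theorem isAffine_ga (R : Type u) [CommRing R] : IsAffine (Red.Ga (Spec (CommRingCat.of R))).left := by
  haveI : IsAffine Red.GaZ.{u}.left := inferInstanceAs (IsAffine (Spec _))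
  haveI : IsAffineHom (Red.Ga (Spec (CommRingCat.of R))).hom :=
    MorphismProperty.pullback_snd _ _ (isAffineHom_of_isAffine _)
  exact isAffine_of_isAffineHom (Red.Ga (Spec (CommRingCat.of R))).hom

end Groth.Agent.NeronModel27
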