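import Groth.Agent.NeronModel27.Components

/-!
# Models of `𝔾_a` and `𝔾_m` are commutative
-/

set_option autoImplicit false
set_option backward.isDefEq.respectTransparency.types false
set_option linter.style.haveILetI false

universe u

open CategoryTheory Limits MonoidalCategory CartesianMonoidalCategory AlgebraicGeometry MonObj GrpObj

namespace Groth.Agent.NeronModel27

variable {R : Type u} [CommRing R] [IsDomain R] (K : Type u) [Field K] [Algebra R K] [IsFractionRing R K]
  (G : Over (Spec (CommRingCat.of R))) [GrpObj G] [Flat G.hom] [IsSeparated G.hom]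

theorem isCommMonObj_of_gm
    (e : Red.bc (Spec.map (CommRingCat.ofHom (algebraMap R K))) G ≅ Red.Gm (Spec (CommRingCat.of K)))
    [IsMonHom e.hom] : IsCommMonObj G :=
  isCommMonObj_of_generic K G (comm_of_iso e fun _ a b =>
    SGA3cLib.gmFn_injective (by rw [SGA3cLib.gmFn_mul, SGA3cLib.gmFn_mul, _root_.mul_comm]))

theorem isCommMonObj_of_ga
    (e : Red.bc (Spec.map (CommRingCat.ofHom (algebraMap R K))) G ≅ Red.Ga (Spec (CommRingCat.of K)))
    [IsMonHom e.hom] : IsCommMonObj G :=
  isCommMonObj_of_generic K G (comm_of_iso e fun _ a b =>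
    SGA3cLib.gaFn_injective (by rw [SGA3cLib.gaFn_mul, SGA3cLib.gaFn_mul, add_comm]))

end Groth.Agent.NeronModel27
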