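import Groth.Agent.NeronModel27.Points
import Groth.Agent.NeronComp27.Lift
import Groth.Agent.SGA3cLib.DiagPoints
import Mathlib.RingTheory.RootsOfUnity.Basic

/-!
# Component groups of models of `𝔾_a` and `𝔾_m`
-/

set_option autoImplicit false
set_option backward.isDefEq.respectTransparency.types false
set_option linter.style.haveILetI false

universe u

open CategoryTheory Limits MonoidalCategory CartesianMonoidalCategory AlgebraicGeometry MonObj GrpObj
open Groth.Agent.SGA3Bounded26

noncomputable section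

namespace Groth.Agent.NeronModel27

variable {R : Type u} [CommRing R] [HenselianLocalRing R] [IsAlgClosed (IsLocalRing.ResidueField R)]
  (G : Over (Spec (CommRingCat.of R))) [GrpObj G] [IsCommMonObj G] [Smooth G.hom] [QuasiCompact G.hom]

local notation "Gk" => Red.bc (Spec.map (CommRingCat.ofHom (IsLocalRing.residue R))) G
local notation "κ" => IsLocalRing.ResidueField R

omit [IsAlgClosed κ] [QuasiCompact G.hom] in
theorem isUnit_natCast {N : ℕ} (hN : (N : κ) ≠ 0) : IsUnit (N : R) := by
  by_contra h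
  refine hN ?_
  rw [← map_natCast (IsLocalRing.residue R), IsLocalRing.residue_eq_zero_iff]
  exact h

/-- The part of the component group killed by an invertible exponent is represented by torsion points. -/
theorem exists_torsion_rep {N : ℕ} (hN : (N : κ) ≠ 0) (x : 𝟙_ (Over (Spec (CommRingCat.of κ))) ⟶ Gk)
    (hx : pImg Gk (x ^ N) ∈ connectedComponent (pImg Gk 1)) :
    ∃ z : 𝟙_ (Over (Spec (CommRingCat.of R))) ⟶ G, z ^ N = 1 ∧
      pImg Gk (redPt G z) ∈ connectedComponent (pImg Gk x) := by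
  haveI : LocallyOfFiniteType (Red.bc (Spec.map (CommRingCat.ofHom (IsLocalRing.residue R))) G).hom :=
    MorphismProperty.pullback_snd G.hom _ inferInstance
  haveI : IsCommMonObj Gk := inferInstance
  obtain ⟨w, hw, hwN⟩ := NeronComp27.exists_root Gk hN (x := (x ^ N)⁻¹) (inv_mem hx)
  obtain ⟨z, hz, hzy⟩ := exists_torsion_lift G (isUnit_natCast hN) (x * w) (by
    rw [(Commute.all x w).mul_pow, hwN, mul_inv_cancel])
  refine ⟨z, hz, ?_⟩
  rw [hzy, NeronComp27.mem_component_iff, inv_mul_cancel_left]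
  exact hw

/-- Without torsion sections of invertible order the component group has no such torsion. -/
theorem component_trivial {N : ℕ} (hN : (N : κ) ≠ 0)
    (hG : ∀ z : 𝟙_ (Over (Spec (CommRingCat.of R))) ⟶ G, z ^ N = 1 → z = 1)
    (x : 𝟙_ (Over (Spec (CommRingCat.of κ))) ⟶ Gk)
    (hx : pImg Gk (x ^ N) ∈ connectedComponent (pImg Gk 1)) : pImg Gk x ∈ connectedComponent (pImg Gk 1) := by
  obtain ⟨z, hz, hzx⟩ := exists_torsion_rep G hN x hx
  rw [hG z hz, map_one] at hzx
  rw [← connectedComponent_eq hzx]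
  exact mem_connectedComponent

/-- If sections embed into the units of a domain, the part of invertible order of the component group is cyclic. -/
theorem exists_generator {L : Type*} [CommRing L] [IsDomain L] (χ : (𝟙_ (Over (Spec (CommRingCat.of R))) ⟶ G) →* L)
    (hχ : Function.Injective χ) {N : ℕ} (hN : (N : κ) ≠ 0) :
    ∃ y₀ : 𝟙_ (Over (Spec (CommRingCat.of κ))) ⟶ Gk, ∀ x : 𝟙_ (Over (Spec (CommRingCat.of κ))) ⟶ Gk,
      pImg Gk (x ^ N) ∈ connectedComponent (pImg Gk 1) →
        ∃ m : ℕ, pImg Gk (y₀ ^ m) ∈ connectedComponent (pImg Gk x) := by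
  haveI : NeZero N := ⟨fun h => hN (by rw [h, Nat.cast_zero])⟩
  let T : Subgroup (𝟙_ (Over (Spec (CommRingCat.of R))) ⟶ G) := (powMonoidHom N).ker
  have hT : ∀ z : T, (z : 𝟙_ (Over (Spec (CommRingCat.of R))) ⟶ G) ^ N = 1 := fun z => z.2
  let f : T →* rootsOfUnity N L :=
    MonoidHom.mk' (fun z => rootsOfUnity.mkOfPowEq (χ z) (by rw [← map_pow, hT, map_one]))
      (fun a b => Subtype.ext (Units.ext (map_mul χ _ _)))
  have hf : Function.Injective f := fun a b h =>
    Subtype.ext (hχ (congrArg (fun t : rootsOfUnity N L => ((t : Lˣ) : L)) h))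
  haveI : Finite T := Finite.of_injective f hf
  haveI : IsCyclic T := isCyclic_of_injective f hf
  obtain ⟨g, hg⟩ := IsCyclic.exists_monoid_generator (α := T)
  refine ⟨redPt G g, fun x hx => ?_⟩
  obtain ⟨z, hz, hzx⟩ := exists_torsion_rep G hN x hx
  obtain ⟨m, hm⟩ := Submonoid.mem_powers_iff _ _ |>.1 (hg ⟨z, hz⟩)
  refine ⟨m, ?_⟩
  rw [← map_pow, ← SubmonoidClass.coe_pow, hm]
  exact hzx

/-- The component group is a finite group. -/
theorem exists_card : ∃ c : ℕ, c ≠ 0 ∧
    ∀ x : 𝟙_ (Over (Spec (CommRingCat.of κ))) ⟶ Gk, pImg Gk (x ^ c) ∈ connectedComponent (pImg Gk 1) := by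
  haveI : LocallyOfFiniteType (Red.bc (Spec.map (CommRingCat.ofHom (IsLocalRing.residue R))) G).hom :=
    MorphismProperty.pullback_snd G.hom _ inferInstance
  haveI : QuasiCompact (Red.bc (Spec.map (CommRingCat.ofHom (IsLocalRing.residue R))) G).hom :=
    MorphismProperty.pullback_snd G.hom _ inferInstance
  haveI : CompactSpace (Red.bc (Spec.map (CommRingCat.ofHom (IsLocalRing.residue R))) G).left :=
    QuasiCompact.compactSpace_of_compactSpace (Red.bc (Spec.map (CommRingCat.ofHom (IsLocalRing.residue R))) G).hom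
  haveI := NeronComp27.finite_quotient Gk
  refine ⟨Nat.card ((𝟙_ (Over (Spec (CommRingCat.of κ))) ⟶ Gk) ⧸ neutralPts Gk), Nat.card_pos.ne', fun x => ?_⟩
  show x ^ _ ∈ neutralPts Gk
  rw [← QuotientGroup.eq_one_iff, QuotientGroup.mk_pow, pow_card_eq_one']

section Gm

variable [IsDomain R] (K : Type u) [Field K] [Algebra R K] [IsFractionRing R K]

/-- Sections as functions on the generic point, for a model of `𝔾_m`. -/
theorem exists_char [IsSeparated G.hom]
    (e : Red.bc (Spec.map (CommRingCat.ofHom (algebraMap R K))) G ≅ Red.Gm (Spec (CommRingCat.of K)))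
    [IsMonHom e.hom] : ∃ χ : (𝟙_ (Over (Spec (CommRingCat.of R))) ⟶ G) →*
      Γ((𝟙_ (Over (Spec (CommRingCat.of K)))).left, ⊤), Function.Injective χ :=
  ⟨{ toFun := fun x => Red.gmFn (resPt _ G x ≫ e.hom)
     map_one' := by rw [map_one, MonObj.one_comp e.hom, SGA3cLib.gmFn_one]
     map_mul' := fun x y => by rw [map_mul, MonObj.mul_comp _ _ e.hom, SGA3cLib.gmFn_mul] },
    fun x y h => resPt_generic_injective K G ((cancel_mono e.hom).1 (SGA3cLib.gmFn_injective h))⟩

omit [HenselianLocalRing R] [IsAlgClosed κ] [IsCommMonObj G] [QuasiCompact G.hom] in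
theorem isDomain_generic : IsDomain Γ((𝟙_ (Over (Spec (CommRingCat.of K)))).left, ⊤) :=
  (Scheme.ΓSpecIso (CommRingCat.of K)).commRingCatIsoToRingEquiv.toMulEquiv.isDomain _

/-- A model of `𝔾_a` has no torsion sections in characteristic zero. -/
theorem eq_one_of_pow_eq_one [IsSeparated G.hom] [CharZero K]
    (e : Red.bc (Spec.map (CommRingCat.ofHom (algebraMap R K))) G ≅ Red.Ga (Spec (CommRingCat.of K)))
    [IsMonHom e.hom] {N : ℕ} (hN : N ≠ 0) (z : 𝟙_ (Over (Spec (CommRingCat.of R))) ⟶ G) (hz : z ^ N = 1) :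
    z = 1 := by
  refine resPt_generic_injective K G ((cancel_mono e.hom).1 (SGA3cLib.gaFn_injective ?_))
  rw [map_one, MonObj.one_comp e.hom, SGA3cLib.gaFn_one]
  let b := resPt (Spec.map (CommRingCat.ofHom (algebraMap R K))) G z ≫ e.hom
  have hb : b ^ N = 1 := by rw [← MonObj.pow_comp, ← map_pow, hz, map_one, MonObj.one_comp e.hom]
  have key : ∀ n : ℕ, Red.gaFn (b ^ n) = n • Red.gaFn b := fun n => by
    induction n with
    | zero => rw [pow_zero, zero_smul, SGA3cLib.gaFn_one]
    | succ n ih => rw [pow_succ, SGA3cLib.gaFn_mul, ih, succ_nsmul]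
  have h0 := (key N).symm.trans (by rw [hb, SGA3cLib.gaFn_one])
  have h1 := congrArg (Scheme.ΓSpecIso (CommRingCat.of K)).hom h0
  change (Scheme.ΓSpecIso (CommRingCat.of K)).commRingCatIsoToRingEquiv _ =
    (Scheme.ΓSpecIso (CommRingCat.of K)).commRingCatIsoToRingEquiv 0 at h1
  rw [map_nsmul, map_zero, nsmul_eq_mul, mul_eq_zero, Nat.cast_eq_zero] at h1
  exact (map_eq_zero_iff _ (Scheme.ΓSpecIso (CommRingCat.of K)).commRingCatIsoToRingEquiv.injective).1
    (h1.resolve_left hN)

end Gm

end Groth.Agent.NeronModel27
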