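import Groth.Agent.NeronModel27.Main
import Groth.Agent.MultExt26.GmBase
import Groth.Agent.GaGmQuot.GmSmooth
import Mathlib.RingTheory.RootsOfUnity.AlgebraicallyClosed

/-!
# Affine models of the multiplicative group
-/

set_option autoImplicit false
set_option backward.isDefEq.respectTransparency.types false
set_option linter.style.haveILetI false

universe u

open CategoryTheory Limits MonoidalCategory CartesianMonoidalCategory AlgebraicGeometry MonObj GrpObj
open Polynomial

noncomputable section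

namespace Groth.Agent.NeronModel27

/-- Extending a ring map on polynomials to the ring obtained by inverting the variable. -/
theorem exists_extend_laurent {R A B : Type u} [CommRing R] [CommRing A] [CommRing B] (ev : R[X] →+* A)
    (hinj : Function.Injective ev) (hu : IsUnit (ev X)) (hsurj : ∀ a, ∃ (n : ℕ) (P : R[X]), a * ev X ^ n = ev P)
    (ev' : R[X] →+* B) (hu' : IsUnit (ev' X)) :
    (∃ β : A →+* B, β.comp ev = ev') ∧ (∀ β β' : A →+* B, β.comp ev = β'.comp ev → β = β') := by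
  letI : Algebra R[X] A := ev.toAlgebra
  haveI : IsLocalization.Away (X : R[X]) A := IsLocalization.Away.mk X hu hsurj fun a b h => ⟨0, by
    rw [hinj h]⟩
  exact ⟨⟨IsLocalization.Away.lift X hu', IsLocalization.Away.lift_comp (X : R[X]) hu'⟩,
    fun β β' h => IsLocalization.ringHom_ext (Submonoid.powers (X : R[X])) h⟩

variable {R : Type u} [CommRing R] (G : Over (Spec (CommRingCat.of R))) [GrpObj G]

/-- The value of a function at a section. -/
def valR (z : 𝟙_ (Over (Spec (CommRingCat.of R))) ⟶ G) : Γ(G.left, ⊤) →+* R :=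
  (Scheme.ΓSpecIso (CommRingCat.of R)).hom.hom.comp z.left.appTop.hom

/-- Values at sections commute with base change. -/
theorem appTop_resPt {C : Type u} [CommRing C] (φ : R →+* C) (z : 𝟙_ (Over (Spec (CommRingCat.of R))) ⟶ G)
    (a : Γ(G.left, ⊤)) :
    (Scheme.ΓSpecIso (CommRingCat.of C)).hom
      ((resPt (Spec.map (CommRingCat.ofHom φ)) G z).left.appTop (toBc G φ a)) = φ (valR G z a) := by
  let f := Spec.map (CommRingCat.ofHom φ)
  have h : (resPt f G z).left ≫ pullback.fst G.hom f = f ≫ z.left := by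
    simp [resPt, SGA3cLib.BCPoints.pt, Over.mapPullbackAdj]
    exact pullback.lift_fst _ _ _
  show (Scheme.ΓSpecIso (CommRingCat.of C)).hom
    (((pullback.fst G.hom f).appTop ≫ (resPt f G z).left.appTop) a) = _
  rw [← Scheme.Hom.comp_appTop, h]
  exact congrArg (fun m : Γ(Spec (CommRingCat.of R), ⊤) ⟶ CommRingCat.of C => m (z.left.appTop a))
    (Scheme.ΓSpecIso_naturality (CommRingCat.ofHom φ))

theorem pv_redPt [HenselianLocalRing R] (z : 𝟙_ (Over (Spec (CommRingCat.of R))) ⟶ G) (a : Γ(G.left, ⊤)) :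
    pv G (redPt G z) a = IsLocalRing.residue R (valR G z a) := appTop_resPt G _ z a

variable [IsDomain R] [IsDiscreteValuationRing R] [HenselianLocalRing R] [IsAlgClosed (IsLocalRing.ResidueField R)]
  (K : Type u) [Field K] [Algebra R K] [IsFractionRing R K] [IsAffine G.left] [Smooth G.hom]

/-- The value of a generic character at a section. -/
def valK (ψ : Red.bc (Spec.map (CommRingCat.ofHom (algebraMap R K))) G ⟶ Red.Gm (Spec (CommRingCat.of K)))
    (z : 𝟙_ (Over (Spec (CommRingCat.of R))) ⟶ G) : K :=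
  (Scheme.ΓSpecIso (CommRingCat.of K)).hom (Red.gmFn (resPt (Spec.map (CommRingCat.ofHom (algebraMap R K))) G z ≫ ψ))

/-- A multiplicative character of the generic fibre is a function on the model. -/
theorem exists_char_fn {ϖ : R} (hϖ : Irreducible ϖ)
    (ψ : Red.bc (Spec.map (CommRingCat.ofHom (algebraMap R K))) G ⟶ Red.Gm (Spec (CommRingCat.of K)))
    (hψ : ∀ x y : 𝟙_ (Over (Spec (CommRingCat.of K))) ⟶ Red.bc (Spec.map (CommRingCat.ofHom (algebraMap R K))) G,
      (x * y) ≫ ψ = (x ≫ ψ) * (y ≫ ψ)) :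
    ∃ u : Γ(G.left, ⊤), toBc G (algebraMap R K) u = Red.gmFn ψ := by
  classical
  have hex : ∃ m, ∃ a : Γ(G.left, ⊤), toBc G (algebraMap R K) (str G ϖ ^ m) * Red.gmFn ψ = toBc G (algebraMap R K) a :=
    exists_pow_mul_eq G hϖ K (Red.gmFn ψ)
  obtain ⟨a, ha⟩ := Nat.find_spec hex
  rcases hm : Nat.find hex with _ | m
  · rw [hm, pow_zero, map_one, _root_.one_mul] at ha
    exact ⟨a, ha.symm⟩
  exfalso
  rw [hm] at ha
  have hndvd : ¬ str G ϖ ∣ a := by
    rintro ⟨a₁, rfl⟩
    refine Nat.find_min hex (m := m) (by omega) ⟨a₁, ?_⟩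
    rw [pow_succ', map_mul, map_mul, _root_.mul_assoc] at ha
    refine IsUnit.mul_left_cancel ?_ ha
    rw [toBc_str]
    exact (IsUnit.mk0 _ ((map_ne_zero_iff _ (IsFractionRing.injective R K)).2 hϖ.ne_zero)).map _
  obtain ⟨y, hy⟩ : ∃ y, pv G y a ≠ 0 := by
    by_contra h
    push Not at h
    exact hndvd (dvd_of_forall_pv G hϖ h)
  obtain ⟨z, rfl⟩ := redPt_surjective G y
  rw [pv_redPt] at hy
  have key : ∀ w : 𝟙_ (Over (Spec (CommRingCat.of R))) ⟶ G,
      algebraMap R K (ϖ ^ (m + 1)) * valK G K ψ w = algebraMap R K (valR G w a) := fun w => by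
    let E := (Scheme.ΓSpecIso (CommRingCat.of K)).hom.hom.comp
      (resPt (Spec.map (CommRingCat.ofHom (algebraMap R K))) G w).left.appTop.hom
    have hE : ∀ c, E (toBc G (algebraMap R K) c) = algebraMap R K (valR G w c) := fun c =>
      appTop_resPt G (algebraMap R K) w c
    have hc : valR G w (str G ϖ) = ϖ := by
      show (Scheme.ΓSpecIso (CommRingCat.of R)).hom (w.left.appTop (str G ϖ)) = ϖ
      rw [appTop_str]
      show (Scheme.ΓSpecIso _).hom (Scheme.Hom.appTop (𝟙 (Spec (CommRingCat.of R)))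
        ((Scheme.ΓSpecIso (CommRingCat.of R)).inv ϖ)) = _
      exact Iso.inv_hom_id_apply _ _
    have h := congrArg E ha
    rw [map_mul, hE, hE, map_pow, hc] at h
    exact h
  have hmul : valK G K ψ (z * z) = valK G K ψ z * valK G K ψ z := by
    unfold valK
    rw [map_mul, hψ, SGA3cLib.gmFn_mul, map_mul]
  have h1 := key z
  have h2 := key (z * z)
  have h3 : valR G z a * valR G z a = ϖ ^ (m + 1) * valR G (z * z) a := by
    apply IsFractionRing.injective R K
    rw [map_mul, map_mul, ← h1, ← h2, hmul]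
    ring
  have h4 := congrArg (IsLocalRing.residue R) h3
  rw [map_mul, map_mul, map_pow, (IsLocalRing.residue_eq_zero_iff ϖ).2
    (hϖ.maximalIdeal_eq ▸ Ideal.mem_span_singleton_self ϖ), zero_pow (Nat.succ_ne_zero m), zero_mul,
    mul_self_eq_zero] at h4
  exact hy h4

variable (e : Red.bc (Spec.map (CommRingCat.ofHom (algebraMap R K))) G ≅ Red.Gm (Spec (CommRingCat.of K)))
  [IsMonHom e.hom]

/-- The coordinate of the model and its inverse. -/
theorem exists_gm_coord {ϖ : R} (hϖ : Irreducible ϖ) :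
    ∃ u : Γ(G.left, ⊤), toBc G (algebraMap R K) u = Red.gmFn e.hom ∧ IsUnit u := by
  obtain ⟨u, hu⟩ := exists_char_fn G K hϖ e.hom fun x y => MonObj.mul_comp _ _ e.hom
  obtain ⟨w, hw⟩ := exists_char_fn G K hϖ (e.hom)⁻¹ fun x y => by
    rw [GrpObj.comp_inv, MonObj.mul_comp _ _ e.hom, GrpObj.comp_inv, GrpObj.comp_inv]
    refine inv_eq_of_mul_eq_one_right (SGA3cLib.gmFn_injective ?_)
    rw [SGA3cLib.gmFn_mul, SGA3cLib.gmFn_mul, SGA3cLib.gmFn_mul, SGA3cLib.gmFn_one]
    linear_combination (Red.gmFn (y ≫ e.hom) * Red.gmFn (y ≫ e.hom)⁻¹) * SGA3cLib.gmFn_inv_mul (x ≫ e.hom) +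
      SGA3cLib.gmFn_inv_mul (y ≫ e.hom)
  refine ⟨u, hu, IsUnit.of_mul_eq_one w (toBc_injective G K ?_)⟩
  rw [map_mul, hu, hw, _root_.mul_comm, SGA3cLib.gmFn_inv_mul, map_one]

/-- The homomorphism to the multiplicative group given by the coordinate. -/
theorem exists_gm_hom {u : Γ(G.left, ⊤)} (hu : toBc G (algebraMap R K) u = Red.gmFn e.hom) (hunit : IsUnit u) :
    ∃ φ : G ⟶ Red.Gm (Spec (CommRingCat.of R)), IsMonHom φ ∧ Red.gmFn φ = u := by
  obtain ⟨φ, hφ⟩ := SGA3cLib.exists_gmFn (S := Spec (CommRingCat.of R)) (X := G) hunit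
  haveI : IsAffineHom (Red.Gm (Spec (CommRingCat.of R))).hom := by
    haveI : IsAffine (Red.diag (ULift.{u} ℤ) ℤ).left := inferInstanceAs (IsAffine (Spec _))
    exact MorphismProperty.pullback_snd _ _ (isAffineHom_of_isAffine _)
  refine ⟨φ, isMonHom_of_generic G K φ fun T a b => SGA3cLib.gmFn_injective ?_, hφ⟩
  have key : ∀ c : (Over.map (Spec.map (CommRingCat.ofHom (algebraMap R K)))).obj T ⟶ G, Red.gmFn (c ≫ φ) =
      Red.gmFn (SGA3cLib.BCPoints.pt _ G T c ≫ e.hom) := fun c => by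
    rw [SGA3cLib.gmFn_comp, hφ, ← appTop_pt G K, hu, SGA3cLib.gmFn_comp]
  rw [SGA3cLib.gmFn_mul, key, key, key, SGA3cLib.BCPoints.pt_mul, MonObj.mul_comp _ _ e.hom, SGA3cLib.gmFn_mul]

/-- The coordinate takes infinitely many residual values if the special fibre contains a torus. -/
theorem infinite_gm_values [IsCommMonObj G] {u : Γ(G.left, ⊤)} (hu : toBc G (algebraMap R K) u = Red.gmFn e.hom)
    (j₀ : Red.Gm (Spec (CommRingCat.of (IsLocalRing.ResidueField R))) ⟶
      Red.bc (Spec.map (CommRingCat.ofHom (IsLocalRing.residue R))) G)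
    [IsMonHom j₀] [IsOpenImmersion j₀.left] :
    (Set.range fun y => pv G y u).Infinite := by
  let κ := IsLocalRing.ResidueField R
  haveI : Mono j₀ := (Over.forget _).mono_of_mono_map (show Mono j₀.left by infer_instance)
  have hroot : ∀ n : ℕ, n.Prime → (n : κ) ≠ 0 → ∃ y, pv G y u ^ n = 1 ∧ pv G y u ≠ 1 := fun n hn hnκ => by
    haveI : NeZero (n : κ) := ⟨hnκ⟩
    obtain ⟨ζ, hζ⟩ := HasEnoughRootsOfUnity.exists_primitiveRoot κ n
    have hζu : IsUnit ζ := hζ.isUnit hn.ne_zero
    obtain ⟨p, hp⟩ := SGA3cLib.exists_gmFn (S := Spec (CommRingCat.of κ))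
      (X := 𝟙_ (Over (Spec (CommRingCat.of κ)))) (hζu.map (Scheme.ΓSpecIso (CommRingCat.of κ)).inv.hom)
    have hp' : Red.gmFn p = (Scheme.ΓSpecIso (CommRingCat.of κ)).inv ζ := hp
    have hpn : p ^ n = 1 := SGA3cLib.gmFn_injective (by
      rw [SGA3cLib.gmFn_pow, hp', ← map_pow, hζ.pow_eq_one, map_one, SGA3cLib.gmFn_one])
    have hy : (p ≫ j₀) ^ n = 1 := by rw [← MonObj.pow_comp p n j₀, hpn, MonObj.one_comp j₀]
    have hne : p ≫ j₀ ≠ 1 := fun h => by
      rw [← MonObj.one_comp (M := Red.Gm (Spec (CommRingCat.of κ))) j₀, cancel_mono j₀] at h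
      rw [h, SGA3cLib.gmFn_one] at hp'
      have h' := congrArg (Scheme.ΓSpecIso (CommRingCat.of κ)).hom hp'
      rw [map_one, Iso.inv_hom_id_apply] at h'
      exact hζ.ne_one hn.one_lt h'.symm
    obtain ⟨z, hz, hzy⟩ := exists_torsion_lift G (isUnit_natCast hnκ) (p ≫ j₀) hy
    let r := valR G z u
    have hrK : algebraMap R K r = valK G K e.hom z := by
      rw [← appTop_resPt G (algebraMap R K) z u, hu]
      unfold valK
      rw [SGA3cLib.gmFn_comp]
    have hrn : r ^ n = 1 := by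
      apply IsFractionRing.injective R K
      rw [map_pow, map_one, hrK]
      unfold valK
      rw [← map_pow, ← SGA3cLib.gmFn_pow, ← MonObj.pow_comp, ← map_pow, hz, map_one, MonObj.one_comp e.hom,
        SGA3cLib.gmFn_one, map_one]
    refine ⟨p ≫ j₀, ?_, fun h1 => hne ?_⟩
    · rw [← hzy, pv_redPt, ← map_pow, hrn, map_one]
    rw [← hzy, pv_redPt] at h1
    have hr1 : r = 1 := by
      have hsum : IsUnit (∑ i ∈ Finset.range n, r ^ i) := by
        by_contra hns
        refine hnκ ?_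
        have h0 := (IsLocalRing.residue_eq_zero_iff _).2 hns
        rw [map_sum] at h0
        simp only [map_pow] at h0
        rw [h1] at h0
        simpa using h0
      have h0 := mul_geom_sum r n
      rw [hrn, sub_self] at h0
      exact sub_eq_zero.1 (hsum.mul_left_eq_zero.1 h0)
    have hz1 : z = 1 := by
      refine resPt_generic_injective K G ((cancel_mono e.hom).1 (SGA3cLib.gmFn_injective ?_))
      rw [map_one, MonObj.one_comp e.hom, SGA3cLib.gmFn_one]
      have h := hrK.symm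
      rw [hr1, map_one] at h
      exact (map_eq_one_iff _ (Scheme.ΓSpecIso (CommRingCat.of K)).commRingCatIsoToRingEquiv.injective).1 h
    rw [← hzy, hz1, map_one]
  let S := {n : ℕ | n.Prime ∧ (n : κ) ≠ 0}
  have hS : S.Infinite := by
    refine (Nat.infinite_setOf_prime.sdiff (Set.finite_singleton (ringChar κ))).mono ?_
    rintro n ⟨hn, hne⟩
    refine ⟨hn, fun h => hne ?_⟩
    rcases hn.eq_one_or_self_of_dvd _ ((ringChar.spec κ n).1 h) with h1 | h1
    · exact absurd h1 CharP.ringChar_ne_one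
    · exact h1.symm
  haveI : Infinite ↥S := hS.to_subtype
  choose y hy1 hy2 using fun n : S => hroot n n.2.1 n.2.2
  refine (Set.infinite_range_of_injective (f := fun n : S => pv G (y n) u) ?_).mono ?_
  · intro a b hab
    have hab' : pv G (y a) u = pv G (y b) u := hab
    have hb1 : orderOf (pv G (y b) u) = (b : ℕ) := by
      haveI : Fact (b : ℕ).Prime := ⟨b.2.1⟩
      exact orderOf_eq_prime (hy1 b) (hy2 b)
    have ha1 : orderOf (pv G (y a) u) = (a : ℕ) := by
      haveI : Fact (a : ℕ).Prime := ⟨a.2.1⟩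
      exact orderOf_eq_prime (hy1 a) (hy2 a)
    exact Subtype.ext (ha1.symm.trans (hab' ▸ hb1))
  · rintro _ ⟨n, rfl⟩
    exact ⟨y n, rfl⟩

/-- A coordinate with infinitely many residual values identifies the model with the multiplicative group. -/
theorem exists_iso_gm {ϖ : R} (hϖ : Irreducible ϖ) {u : Γ(G.left, ⊤)}
    (hu : toBc G (algebraMap R K) u = Red.gmFn e.hom) (hunit : IsUnit u)
    (hinf : (Set.range fun y => pv G y u).Infinite) :
    ∃ e' : G ≅ Red.Gm (Spec (CommRingCat.of R)), IsMonHom e'.hom := by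
  obtain ⟨φ, hφm, hφ⟩ := exists_gm_hom G K e hu hunit
  let GK := Red.bc (Spec.map (CommRingCat.ofHom (algebraMap R K))) G
  haveI : IsIso e.hom.left := inferInstanceAs (IsIso ((Over.forget _).map e.hom))
  haveI : IsIso e.hom.left.appTop := inferInstanceAs (IsIso (e.hom.left.app ⊤))
  have hbij := ConcreteCategory.bijective_of_isIso e.hom.left.appTop
  have hev : ∀ Q, GaGmQuot.ev GK (Red.gmFn e.hom) Q =
      e.hom.left.appTop (GaGmQuot.ev (Red.Gm (Spec (CommRingCat.of K))) (GaGmQuot.gmX K) Q) := fun Q => by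
    rw [GaGmQuot.appTop_ev, GaGmQuot.appTop_gmX]
  have hc : Function.Injective (GaGmQuot.ev GK (Red.gmFn e.hom)) := fun P Q h => by
    rw [hev, hev] at h
    exact GaGmQuot.ev_gmX_injective (hbij.1 h)
  have ht : toBc G (algebraMap R K) u = GaGmQuot.cst GK 1 * Red.gmFn e.hom := by
    rw [map_one, _root_.one_mul, hu]
  have hinj := eval₂_injective G K one_ne_zero ht hc
  have hnzd : ∀ a, str G ϖ * a = 0 → a = 0 := fun a h => toBc_injective G K (by
    have h' := congrArg (toBc G (algebraMap R K)) h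
    rw [map_mul, toBc_str, map_zero] at h'
    rw [map_zero]
    exact ((IsUnit.mk0 _ ((map_ne_zero_iff _ (IsFractionRing.injective R K)).2 hϖ.ne_zero)).map
      (str GK)).mul_right_eq_zero.1 h')
  have hsurj : ∀ a, ∃ (n : ℕ) (P : R[X]), a * eval₂RingHom (str G) u X ^ n = eval₂RingHom (str G) u P := fun a => by
    obtain ⟨d, hd⟩ := hbij.2 (toBc G (algebraMap R K) a)
    obtain ⟨n, Q, -, hQ⟩ := GaGmQuot.gen_gmX d
    have hQ' : toBc G (algebraMap R K) (a * u ^ n) = GaGmQuot.ev GK (Red.gmFn e.hom) Q := by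
      rw [hev, ← hQ, map_mul, map_mul, map_pow, map_pow, hd, hu, GaGmQuot.appTop_gmX, _root_.mul_comm]
    obtain ⟨m, P, hP⟩ := exists_poly G K hϖ one_ne_zero ht (a * u ^ n) Q hQ'
    obtain ⟨P', hP'⟩ := exists_eq_eval₂ hϖ (str G) hnzd (pv G) (pv_str G) hinf m _ P hP
    exact ⟨n, P', by rw [coe_eval₂RingHom, eval₂_X]; exact hP'⟩
  let Y := Red.Gm (Spec (CommRingCat.of R))
  have hY : IsUnit (eval₂RingHom (str Y) (Red.gmFn (𝟙 Y)) X) := by
    rw [coe_eval₂RingHom, eval₂_X]; exact SGA3cLib.isUnit_gmFn _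
  have hX : IsUnit (eval₂RingHom (str G) u X) := by rw [coe_eval₂RingHom, eval₂_X]; exact hunit
  obtain ⟨⟨β, hβ⟩, -⟩ := exists_extend_laurent _ hinj hX hsurj _ hY
  obtain ⟨-, huniq⟩ := exists_extend_laurent _ hinj hX hsurj (eval₂RingHom (str G) u) hX
  obtain ⟨j, hj⟩ := exists_hom (T := Y) (X := G) β fun r => by
    have h := DFunLike.congr_fun hβ (C r)
    rwa [RingHom.comp_apply, coe_eval₂RingHom, coe_eval₂RingHom, eval₂_C, eval₂_C] at h
  have h1 : φ ≫ j = 𝟙 G := by
    refine hom_ext_of_appTop fun d => ?_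
    show φ.left.appTop (j.left.appTop d) = (𝟙 G.left : G.left ⟶ G.left).appTop d
    rw [hj, Scheme.Hom.id_appTop]
    refine DFunLike.congr_fun (huniq (φ.left.appTop.hom.comp β) (RingHom.id _) ?_) d
    rw [RingHom.comp_assoc, hβ, RingHom.id_comp]
    refine Polynomial.ringHom_ext (fun r => ?_) ?_
    · rw [RingHom.comp_apply, coe_eval₂RingHom, coe_eval₂RingHom, eval₂_C, eval₂_C]
      exact appTop_str Y φ r
    · rw [RingHom.comp_apply, coe_eval₂RingHom, coe_eval₂RingHom, eval₂_X, eval₂_X]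
      exact ((SGA3cLib.gmFn_comp φ (𝟙 Y)).symm.trans (by rw [Category.comp_id, hφ]))
  have h2 : j ≫ φ = 𝟙 Y := SGA3cLib.gmFn_injective (by
    rw [SGA3cLib.gmFn_comp, hφ, hj, show u = eval₂RingHom (str G) u X from (eval₂_X _ _).symm,
      ← RingHom.comp_apply β, hβ, coe_eval₂RingHom, eval₂_X])
  exact ⟨⟨φ, j, h1, h2⟩, hφm⟩

omit [GrpObj G] [IsDomain R] [IsDiscreteValuationRing R] [HenselianLocalRing R] [IsAffine G.left] [Smooth G.hom] in
/-- The special fibre of a model isomorphic to the multiplicative group is connected. -/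
theorem connectedSpace_of_iso_gm [IsLocalRing R] (e' : G ≅ Red.Gm (Spec (CommRingCat.of R))) :
    ConnectedSpace ↥(Red.bc (Spec.map (CommRingCat.ofHom (IsLocalRing.residue R))) G).left := by
  let f := Spec.map (CommRingCat.ofHom (IsLocalRing.residue R))
  haveI := MultExt26.connectedSpace_gm_fibre (Spec (CommRingCat.of R)) f
  let i := (Over.forget _).mapIso ((Over.pullback f).mapIso e')
  exact i.hom.homeomorph.connectedSpace_iff.mpr this

end Groth.Agent.NeronModel27
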