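import Groth.Agent.NeronModel27.Model
import Groth.Agent.NeronModel27.Commutative

/-!
# Affine models of the additive group
-/

set_option autoImplicit false
set_option backward.isDefEq.respectTransparency.types false
set_option linter.style.haveILetI false

universe u

open CategoryTheory Limits MonoidalCategory CartesianMonoidalCategory AlgebraicGeometry MonObj GrpObj
open Polynomial Groth.Agent.SGA3Bounded26

noncomputable section

namespace Groth.Agent.NeronModel27

variable {R : Type u} [CommRing R] [IsDomain R] [IsDiscreteValuationRing R] (K : Type u) [Field K] [Algebra R K]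
  [IsFractionRing R K] (G : Over (Spec (CommRingCat.of R))) [GrpObj G] [IsAffine G.left] [Smooth G.hom]


omit [GrpObj G] [Smooth G.hom] [IsDomain R] [IsDiscreteValuationRing R] [IsFractionRing R K] [IsAffine G.left] in
theorem ev_coord_bijective {Y : Over (Spec (CommRingCat.of K))} (e : (Red.bc (Spec.map (CommRingCat.ofHom (algebraMap R K))) G) ≅ Y) (x : Γ(Y.left, ⊤))
    (h : Function.Bijective (GaGmQuot.ev Y x)) :
    Function.Bijective (GaGmQuot.ev (Red.bc (Spec.map (CommRingCat.ofHom (algebraMap R K))) G) (e.hom.left.appTop x)) := by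
  have he : ⇑(GaGmQuot.ev (Red.bc (Spec.map (CommRingCat.ofHom (algebraMap R K))) G) (e.hom.left.appTop x)) = ⇑e.hom.left.appTop ∘ ⇑(GaGmQuot.ev Y x) :=
    funext fun Q => (GaGmQuot.appTop_ev e.hom x Q).symm
  rw [he]
  haveI : IsIso e.hom.left := inferInstanceAs (IsIso ((Over.forget _).map e.hom))
  haveI : IsIso e.hom.left.appTop := inferInstanceAs (IsIso (e.hom.left.app ⊤))
  exact (ConcreteCategory.bijective_of_isIso e.hom.left.appTop).comp h

variable (e : (Red.bc (Spec.map (CommRingCat.ofHom (algebraMap R K))) G) ≅ Red.Ga (Spec (CommRingCat.of K))) [IsMonHom e.hom]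

/-- The coordinate of the generic fibre. -/
def gaC : Γ(((Red.bc (Spec.map (CommRingCat.ofHom (algebraMap R K))) G)).left, ⊤) := Red.gaFn e.hom

omit [GrpObj G] [Smooth G.hom] [IsDomain R] [IsDiscreteValuationRing R] [IsFractionRing R K] [IsAffine G.left]
  [IsMonHom e.hom] in
theorem bijective_ev_gaC : Function.Bijective (GaGmQuot.ev (Red.bc (Spec.map (CommRingCat.ofHom (algebraMap R K))) G) (gaC K G e)) := by
  have h := ev_coord_bijective K G e (GaGmQuot.gaX K) GaGmQuot.bijective_ev_gaX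
  rwa [GaGmQuot.appTop_gaX] at h

omit [Smooth G.hom] [IsDiscreteValuationRing R] [IsFractionRing R K] [IsAffine G.left] [IsMonHom e.hom] in
theorem pv_one_str (r : R) [IsLocalRing R] : pv G (1 : 𝟙_ (Over (Spec (CommRingCat.of (IsLocalRing.ResidueField R)))) ⟶ (Red.bc (Spec.map (CommRingCat.ofHom (IsLocalRing.residue R))) G)) (str G r) =
    IsLocalRing.residue R r := pv_str G _ r

/-- A coordinate of the model that is not divisible by the uniformiser. -/
theorem exists_ga_coord {ϖ : R} (hϖ : Irreducible ϖ) :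
    ∃ (t : Γ(G.left, ⊤)) (s : K), s ≠ 0 ∧
      toBc G (algebraMap R K) t = GaGmQuot.cst (Red.bc (Spec.map (CommRingCat.ofHom (algebraMap R K))) G) s * gaC K G e ∧ ¬ str G ϖ ∣ t := by
  haveI : IsNoetherianRing Γ(G.left, ⊤) := by
    haveI : IsLocallyNoetherian G.left := LocallyOfFiniteType.isLocallyNoetherian G.hom
    exact IsLocallyNoetherian.component_noetherian ⟨⊤, isAffineOpen_top G.left⟩
  obtain ⟨hinj, -⟩ := bijective_ev_gaC K G e
  haveI : IsDomain Γ(((Red.bc (Spec.map (CommRingCat.ofHom (algebraMap R K))) G)).left, ⊤) :=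
    (RingEquiv.ofBijective _ (bijective_ev_gaC K G e)).symm.toMulEquiv.isDomain _
  haveI : IsDomain Γ(G.left, ⊤) := (toBc_injective G K).isDomain _
  obtain ⟨m, a₀, ha⟩ := exists_pow_mul_eq G hϖ K (gaC K G e)
  have hne : gaC K G e ≠ 0 := fun h => X_ne_zero (hinj ((GaGmQuot.ev_X _ _).trans (h.trans (map_zero _).symm)))
  have hϖK : algebraMap R K ϖ ≠ 0 := (map_ne_zero_iff _ (IsFractionRing.injective R K)).2 hϖ.ne_zero
  have hu : IsUnit (toBc G (algebraMap R K) (str G ϖ)) := by
    rw [toBc_str]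
    exact (IsUnit.mk0 _ hϖK).map _
  have ha0 : a₀ ≠ 0 := fun h => by
    rw [h, map_zero, map_pow] at ha
    exact hne ((hu.pow m).mul_right_eq_zero.1 ha)
  have hnu : ¬ IsUnit (str G ϖ) := fun h => by
    have h' := h.map (pv G (1 : 𝟙_ (Over (Spec (CommRingCat.of (IsLocalRing.ResidueField R)))) ⟶ (Red.bc (Spec.map (CommRingCat.ofHom (IsLocalRing.residue R))) G)))
    rw [pv_str, (IsLocalRing.residue_eq_zero_iff ϖ).2 (hϖ.maximalIdeal_eq ▸ Ideal.mem_span_singleton_self ϖ)] at h'
    exact not_isUnit_zero h'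
  obtain ⟨n, t, ht, hat⟩ := WfDvdMonoid.max_power_factor' ha0 hnu
  refine ⟨t, algebraMap R K ϖ ^ m / algebraMap R K ϖ ^ n, div_ne_zero (pow_ne_zero _ hϖK) (pow_ne_zero _ hϖK), ?_, ht⟩
  refine (hu.pow n).mul_left_cancel ?_
  rw [← map_pow, ← map_mul, ← hat, ← ha, ← _root_.mul_assoc, map_pow, map_pow, toBc_str]
  congr 1
  show GaGmQuot.cst (Red.bc (Spec.map (CommRingCat.ofHom (algebraMap R K))) G) (algebraMap R K ϖ) ^ m =
    GaGmQuot.cst (Red.bc (Spec.map (CommRingCat.ofHom (algebraMap R K))) G) (algebraMap R K ϖ) ^ n * _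
  rw [← map_pow (GaGmQuot.cst _) _ m, ← map_pow (GaGmQuot.cst _) _ n, ← map_mul, mul_div_cancel₀ _ (pow_ne_zero _ hϖK)]

/-- The homomorphism to the additive group given by the coordinate. -/
theorem exists_ga_hom {t : Γ(G.left, ⊤)} {s : K}
    (ht : toBc G (algebraMap R K) t = GaGmQuot.cst (Red.bc (Spec.map (CommRingCat.ofHom (algebraMap R K))) G) s * gaC K G e) :
    ∃ φ : G ⟶ Red.Ga (Spec (CommRingCat.of R)), IsMonHom φ ∧ Red.gaFn φ = t := by
  obtain ⟨φ, hφ⟩ := SGA3cLib.exists_gaFn (S := Spec (CommRingCat.of R)) (X := G) t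
  haveI : IsAffineHom (Red.Ga (Spec (CommRingCat.of R))).hom :=
    by
    haveI : IsAffine Red.GaZ.{u}.left := inferInstanceAs (IsAffine (Spec _))
    exact MorphismProperty.pullback_snd _ _ (isAffineHom_of_isAffine _)
  refine ⟨φ, isMonHom_of_generic G K φ fun T a b => SGA3cLib.gaFn_injective ?_, hφ⟩
  have key : ∀ c : (Over.map (Spec.map (CommRingCat.ofHom (algebraMap R K)))).obj T ⟶ G, Red.gaFn (c ≫ φ) =
      GaGmQuot.cst T s * Red.gaFn (SGA3cLib.BCPoints.pt _ G T c ≫ e.hom) := fun c => by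
    rw [SGA3cLib.gaFn_comp, hφ, ← appTop_pt G K, ht, map_mul, GaGmQuot.appTop_cst, gaC, SGA3cLib.gaFn_comp]
  rw [SGA3cLib.gaFn_mul, key, key, key, SGA3cLib.BCPoints.pt_mul, MonObj.mul_comp _ _ e.hom, SGA3cLib.gaFn_mul,
    mul_add]

variable [IsAlgClosed (IsLocalRing.ResidueField R)]

/-- A coordinate with infinitely many residual values identifies the model with the additive group. -/
theorem exists_iso_ga {ϖ : R} (hϖ : Irreducible ϖ) {t : Γ(G.left, ⊤)} {s : K} (hs : s ≠ 0)
    (ht : toBc G (algebraMap R K) t = GaGmQuot.cst (Red.bc (Spec.map (CommRingCat.ofHom (algebraMap R K))) G) s * gaC K G e)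
    (hinf : (Set.range fun y => pv G y t).Infinite) :
    ∃ e' : G ≅ Red.Ga (Spec (CommRingCat.of R)), IsMonHom e'.hom := by
  obtain ⟨φ, hφm, hφ⟩ := exists_ga_hom K G e ht
  obtain ⟨hinj, hsurj⟩ := bijective_ev_gaC K G e
  have hnzd : ∀ a, str G ϖ * a = 0 → a = 0 := fun a h => toBc_injective G K (by
    have h' := congrArg (toBc G (algebraMap R K)) h
    rw [map_mul, toBc_str, map_zero] at h'
    rw [map_zero]
    exact ((IsUnit.mk0 _ ((map_ne_zero_iff _ (IsFractionRing.injective R K)).2 hϖ.ne_zero)).map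
      (str (Red.bc (Spec.map (CommRingCat.ofHom (algebraMap R K))) G))).mul_right_eq_zero.1 h')
  have hb : Function.Bijective (eval₂RingHom (str G) t) := by
    refine ⟨eval₂_injective G K hs ht hinj, fun a => ?_⟩
    obtain ⟨Q, hQ⟩ := hsurj (toBc G (algebraMap R K) a)
    obtain ⟨m, P, hP⟩ := exists_poly G K hϖ hs ht a Q hQ.symm
    obtain ⟨Q', hQ'⟩ := exists_eq_eval₂ hϖ (str G) hnzd (pv G) (pv_str G) hinf m a P hP
    exact ⟨Q', hQ'.symm⟩
  let σ := RingEquiv.ofBijective (eval₂RingHom (str G) t) hb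
  let Y := Red.Ga (Spec (CommRingCat.of R))
  let β : Γ(G.left, ⊤) →+* Γ(Y.left, ⊤) :=
    (eval₂RingHom (str Y) (Red.gaFn (𝟙 Y))).comp σ.symm.toRingHom
  have hβ : ∀ P : R[X], β (P.eval₂ (str G) t) = P.eval₂ (str Y) (Red.gaFn (𝟙 Y)) := fun P => by
    show eval₂ _ _ (σ.symm (σ P)) = _
    rw [σ.symm_apply_apply]
  obtain ⟨j, hj⟩ := exists_hom (T := Y) (X := G) β fun r => by
    have h := hβ (C r)
    rwa [eval₂_C, eval₂_C] at h
  have h1 : φ ≫ j = 𝟙 G := by
    refine hom_ext_of_appTop fun d => ?_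
    obtain ⟨P, rfl⟩ := hb.2 d
    show φ.left.appTop (j.left.appTop _) = (𝟙 G.left : G.left ⟶ G.left).appTop _
    rw [hj, coe_eval₂RingHom, hβ, hom_eval₂, Scheme.Hom.id_appTop,
      show φ.left.appTop.hom.comp (str Y) = str G from RingHom.ext (appTop_str Y φ)]
    rw [show φ.left.appTop.hom (Red.gaFn (𝟙 Y)) = t by rw [← SGA3cLib.gaFn_comp, Category.comp_id, hφ]]
    rfl
  have h2 : j ≫ φ = 𝟙 Y := SGA3cLib.gaFn_injective (by
    rw [SGA3cLib.gaFn_comp, hφ, hj, show t = (X : R[X]).eval₂ (str G) t from (eval₂_X _ _).symm, hβ, eval₂_X])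
  exact ⟨⟨φ, j, h1, h2⟩, hφm⟩

/-- In residue characteristic zero a coordinate that is not divisible has infinitely many values. -/
theorem infinite_values [CharZero (IsLocalRing.ResidueField R)] {ϖ : R} (hϖ : Irreducible ϖ) {t : Γ(G.left, ⊤)} {s : K}
    (ht : toBc G (algebraMap R K) t = GaGmQuot.cst (Red.bc (Spec.map (CommRingCat.ofHom (algebraMap R K))) G) s * gaC K G e) (hdvd : ¬ str G ϖ ∣ t) :
    (Set.range fun y => pv G y t).Infinite := by
  obtain ⟨φ, hφm, hφ⟩ := exists_ga_hom K G e ht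
  let f : Spec (CommRingCat.of (IsLocalRing.ResidueField R)) ⟶ Spec (CommRingCat.of R) := Spec.map (CommRingCat.ofHom (IsLocalRing.residue R))
  have hval : ∀ y : 𝟙_ (Over (Spec (CommRingCat.of (IsLocalRing.ResidueField R)))) ⟶ (Red.bc (Spec.map (CommRingCat.ofHom (IsLocalRing.residue R))) G), pv G y t =
      (Scheme.ΓSpecIso (CommRingCat.of (IsLocalRing.ResidueField R))).hom (Red.gaFn ((SGA3cLib.BCPoints.pt f G _).symm y ≫ φ)) := fun y => by
    rw [SGA3cLib.gaFn_comp, hφ, ← appTop_pt G (IsLocalRing.ResidueField R)]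
    show _ = (Scheme.ΓSpecIso (CommRingCat.of (IsLocalRing.ResidueField R))).hom
      ((SGA3cLib.BCPoints.pt f G _ ((SGA3cLib.BCPoints.pt f G _).symm y)).left.appTop (toBc G (IsLocalRing.residue R) t))
    rw [Equiv.apply_symm_apply]
    rfl
  let E := (MulEquiv.mk' (SGA3cLib.BCPoints.pt f G (𝟙_ (Over (Spec (CommRingCat.of (IsLocalRing.ResidueField R))))))
    (SGA3cLib.BCPoints.pt_mul f)).symm
  have hadd : ∀ y z : 𝟙_ (Over (Spec (CommRingCat.of (IsLocalRing.ResidueField R)))) ⟶ (Red.bc (Spec.map (CommRingCat.ofHom (IsLocalRing.residue R))) G), pv G (y * z) t = pv G y t + pv G z t := fun y z => by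
    rw [hval, hval, hval, ← map_add, ← SGA3cLib.gaFn_mul, ← MonObj.mul_comp _ _ φ]
    exact congrArg (fun w => (Scheme.ΓSpecIso (CommRingCat.of (IsLocalRing.ResidueField R))).hom (Red.gaFn (w ≫ φ))) (E.map_mul y z)
  obtain ⟨y₀, hy₀⟩ : ∃ y, pv G y t ≠ 0 := by
    by_contra h
    push Not at h
    exact hdvd (dvd_of_forall_pv G hϖ h)
  have hsucc : ∀ n : ℕ, pv G (y₀ ^ (n + 1)) t = ((n + 1 : ℕ) : (IsLocalRing.ResidueField R)) * pv G y₀ t := fun n => by
    induction n with
    | zero => rw [pow_one, Nat.cast_one, _root_.one_mul]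
    | succ n ih => rw [pow_succ, hadd, ih, Nat.cast_succ (n + 1), add_mul, _root_.one_mul]
  refine Set.Infinite.mono ?_ (Set.infinite_range_of_injective (f := fun n : ℕ => ((n + 1 : ℕ) : (IsLocalRing.ResidueField R)) * pv G y₀ t)
    fun a b h => Nat.succ_injective (Nat.cast_injective (mul_right_cancel₀ hy₀ h)))
  rintro _ ⟨n, rfl⟩
  exact ⟨y₀ ^ (n + 1), hsucc n⟩

/-- If all rational points are in the neutral component the special fibre is connected. -/
theorem connectedSpace_of_forall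
    (h : ∀ y : 𝟙_ (Over (Spec (CommRingCat.of (IsLocalRing.ResidueField R)))) ⟶ (Red.bc (Spec.map (CommRingCat.ofHom (IsLocalRing.residue R))) G), pImg (Red.bc (Spec.map (CommRingCat.ofHom (IsLocalRing.residue R))) G) y ∈ connectedComponent (pImg (Red.bc (Spec.map (CommRingCat.ofHom (IsLocalRing.residue R))) G) 1)) :
    ConnectedSpace ↥((Red.bc (Spec.map (CommRingCat.ofHom (IsLocalRing.residue R))) G)).left := by
  haveI : LocallyOfFiniteType ((Red.bc (Spec.map (CommRingCat.ofHom (IsLocalRing.residue R))) G)).hom := MorphismProperty.pullback_snd G.hom _ inferInstance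
  haveI : IsLocallyNoetherian ((Red.bc (Spec.map (CommRingCat.ofHom (IsLocalRing.residue R))) G)).left := LocallyOfFiniteType.isLocallyNoetherian ((Red.bc (Spec.map (CommRingCat.ofHom (IsLocalRing.residue R))) G)).hom
  haveI : JacobsonSpace ↥((Red.bc (Spec.map (CommRingCat.ofHom (IsLocalRing.residue R))) G)).left := LocallyOfFiniteType.jacobsonSpace ((Red.bc (Spec.map (CommRingCat.ofHom (IsLocalRing.residue R))) G)).hom
  refine connectedSpace_iff_connectedComponent.2 ⟨pImg (Red.bc (Spec.map (CommRingCat.ofHom (IsLocalRing.residue R))) G) 1, Set.eq_univ_of_forall fun z => ?_⟩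
  obtain ⟨w, hw, hwc⟩ := nonempty_inter_closedPoints (Z := connectedComponent z) ⟨z, mem_connectedComponent⟩
    isClosed_connectedComponent.isLocallyClosed
  obtain ⟨y, rfl⟩ := exists_pImg (Red.bc (Spec.map (CommRingCat.ofHom (IsLocalRing.residue R))) G) w hwc
  rw [connectedComponent_eq (h y), ← connectedComponent_eq hw]
  exact mem_connectedComponent

end Groth.Agent.NeronModel27
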