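import Groth.Agent.NeronModel27.Scale
import Groth.Agent.NeronModel27.Main
import Groth.Agent.NeronModel27.GmModel
import Groth.Agent.NeronModel27.GaSmoothBase
import Mathlib.AlgebraicGeometry.Morphisms.FlatMono

/-!
# The identity component of an affine model of the additive group
-/

set_option autoImplicit false
set_option backward.isDefEq.respectTransparency.types false
set_option linter.style.haveILetI false

universe u

open CategoryTheory Limits MonoidalCategory CartesianMonoidalCategory AlgebraicGeometry MonObj GrpObj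
open Polynomial Groth.Agent.SGA3Bounded26

noncomputable section

namespace Groth.Agent.NeronModel27

variable {R : Type u} [CommRing R] (G : Over (Spec (CommRingCat.of R)))

section Points

variable [IsLocalRing R]

/-- The place in the model of a rational point of the special fibre. -/
def plc (y : 𝟙_ (Over (Spec (CommRingCat.of (IsLocalRing.ResidueField R)))) ⟶
    Red.bc (Spec.map (CommRingCat.ofHom (IsLocalRing.residue R))) G) : G.left :=
  (pullback.fst G.hom (Spec.map (CommRingCat.ofHom (IsLocalRing.residue R)))).base (pImg _ y)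

theorem plc_mem_basicOpen_iff (y : 𝟙_ (Over (Spec (CommRingCat.of (IsLocalRing.ResidueField R)))) ⟶
    Red.bc (Spec.map (CommRingCat.ofHom (IsLocalRing.residue R))) G) (a : Γ(G.left, ⊤)) :
    plc G y ∈ G.left.basicOpen a ↔ pv G y a ≠ 0 := by
  let κ := IsLocalRing.ResidueField R
  let q : (𝟙_ (Over (Spec (CommRingCat.of κ)))).left ⟶ G.left :=
    y.left ≫ pullback.fst G.hom (Spec.map (CommRingCat.ofHom (IsLocalRing.residue R)))
  show IsLocalRing.closedPoint κ ∈ q ⁻¹ᵁ G.left.basicOpen a ↔ _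
  rw [Scheme.preimage_basicOpen_top]
  have hv : pv G y a = (Scheme.ΓSpecIso (CommRingCat.of κ)).hom (q.appTop a) := by
    show _ = (Scheme.ΓSpecIso (CommRingCat.of κ)).hom (((pullback.fst G.hom
      (Spec.map (CommRingCat.ofHom (IsLocalRing.residue R)))).appTop ≫ y.left.appTop) a)
    rfl
  constructor
  · intro h h0
    rw [hv] at h0
    have h' := (map_eq_zero_iff _ (Scheme.ΓSpecIso (CommRingCat.of κ)).commRingCatIsoToRingEquiv.injective).1 h0
    rw [h', Scheme.basicOpen_zero] at h
    exact h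
  · intro h
    have hu : IsUnit (q.appTop a) := by
      have hu' : IsUnit (pv G y a) := isUnit_iff_ne_zero.2 h
      rw [hv] at hu'
      exact (MulEquiv.isUnit_map (Scheme.ΓSpecIso (CommRingCat.of κ)).commRingCatIsoToRingEquiv).1 hu'
    rw [Scheme.basicOpen_of_isUnit _ hu]
    trivial

variable [GrpObj G] [LocallyOfFiniteType G.hom] [IsAffine G.left]

/-- A function cutting out a neighbourhood of the identity of the special fibre inside its component. -/
theorem exists_neighbour_fn :
    ∃ f : Γ(G.left, ⊤), pv G 1 f ≠ 0 ∧ ∀ y, pv G y f ≠ 0 →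
      pImg (Red.bc (Spec.map (CommRingCat.ofHom (IsLocalRing.residue R))) G) y ∈
        connectedComponent (pImg (Red.bc (Spec.map (CommRingCat.ofHom (IsLocalRing.residue R))) G) 1) := by
  let r := Spec.map (CommRingCat.ofHom (IsLocalRing.residue R))
  let H := Red.bc r G
  haveI : IsClosedImmersion r := IsClosedImmersion.spec_of_surjective _ IsLocalRing.residue_surjective
  haveI : IsClosedImmersion (pullback.fst G.hom r) := MorphismProperty.pullback_fst _ _ ‹IsClosedImmersion r›
  haveI : LocallyOfFiniteType H.hom := MorphismProperty.pullback_snd G.hom r inferInstance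
  haveI : IsLocallyNoetherian H.left := LocallyOfFiniteType.isLocallyNoetherian H.hom
  let p := pullback.fst G.hom r
  let U : G.left.Opens := ⟨(p.base '' (connectedComponent (pImg H 1))ᶜ)ᶜ,
    (p.isClosedEmbedding.isClosedMap _ (SGA3cLib.isOpen_connectedComponent _).isClosed_compl).isOpen_compl⟩
  have h1 : plc G (1 : 𝟙_ _ ⟶ H) ∈ U := by
    rintro ⟨w, hw, hwe⟩
    exact hw (p.isClosedEmbedding.injective hwe ▸ mem_connectedComponent)
  obtain ⟨f, hfU, hf⟩ := (isAffineOpen_top G.left).exists_basicOpen_le ⟨_, h1⟩ trivial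
  refine ⟨f, (plc_mem_basicOpen_iff G _ f).1 hf, fun y hy => ?_⟩
  by_contra hne
  exact hfU ((plc_mem_basicOpen_iff G y f).2 hy) ⟨_, hne, rfl⟩

variable [IsAlgClosed (IsLocalRing.ResidueField R)]

/-- The component of the identity is irreducible, read on functions. -/
theorem irreducible_fn {f : Γ(G.left, ⊤)}
    (hfC : ∀ y, pv G y f ≠ 0 → pImg (Red.bc (Spec.map (CommRingCat.ofHom (IsLocalRing.residue R))) G) y ∈
      connectedComponent (pImg (Red.bc (Spec.map (CommRingCat.ofHom (IsLocalRing.residue R))) G) 1))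
    (a b : Γ(G.left, ⊤)) (ha : ∃ y, pv G y (a * f) ≠ 0) (hb : ∃ y, pv G y (b * f) ≠ 0) :
    ∃ y, pv G y (a * b * f) ≠ 0 := by
  let r := Spec.map (CommRingCat.ofHom (IsLocalRing.residue R))
  let H := Red.bc r G
  haveI : LocallyOfFiniteType H.hom := MorphismProperty.pullback_snd G.hom r inferInstance
  let V : Γ(G.left, ⊤) → Set (𝟙_ (Over (Spec (CommRingCat.of (IsLocalRing.ResidueField R)))) ⟶ H) := fun c =>
    pImg H ⁻¹' ((pullback.fst G.hom r).base ⁻¹' (G.left.basicOpen c : Set G.left))
  have hV : ∀ c, IsOpen (V c) := fun c =>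
    ((G.left.basicOpen c).isOpen.preimage (pullback.fst G.hom r).continuous).preimage (isInducing_pImg H).continuous
  have hmem : ∀ c y, y ∈ V c ↔ pv G y c ≠ 0 := fun c y => plc_mem_basicOpen_iff G y c
  have hne : ∀ c, (∃ y, pv G y (c * f) ≠ 0) →
      ((neutralPts H : Set (𝟙_ (Over (Spec (CommRingCat.of (IsLocalRing.ResidueField R)))) ⟶ H)) ∩ V (c * f)).Nonempty := by
    rintro c ⟨y, hy⟩
    refine ⟨y, hfC y fun h => hy (by rw [map_mul, h, mul_zero]), (hmem _ y).2 hy⟩
  obtain ⟨y, -, h1, h2⟩ := (isIrreducible_neutralPts H).2 _ _ (hV _) (hV _) (hne a ha) (hne b hb)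
  rw [hmem, map_mul, mul_ne_zero_iff] at h1 h2
  exact ⟨y, by rw [map_mul, map_mul]; exact mul_ne_zero (mul_ne_zero h1.1 h2.1) h1.2⟩

end Points

/-- A monomorphism with a section over an affine open is flat there. -/
theorem isOpenImmersion_restrict_of_section {Y : Scheme.{u}} {Z : Scheme.{u}} (j : Y ⟶ Z) [Mono j] (O : Z.Opens)
    (σ : (O : Scheme.{u}) ⟶ Y) (hσ : σ ≫ j = O.ι) : IsOpenImmersion ((j ⁻¹ᵁ O).ι ≫ j) := by
  have hr : Set.range σ ⊆ Set.range (j ⁻¹ᵁ O).ι := by
    rintro _ ⟨x, rfl⟩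
    rw [Scheme.Opens.range_ι]
    show j (σ x) ∈ O
    rw [← Scheme.Hom.comp_apply, hσ]
    exact x.2
  let σ' := IsOpenImmersion.lift (j ⁻¹ᵁ O).ι σ hr
  have hs : σ' ≫ (j ∣_ O) = 𝟙 _ := by
    rw [← cancel_mono O.ι, Category.assoc, morphismRestrict_ι, IsOpenImmersion.lift_fac_assoc, hσ, Category.id_comp]
  haveI : Mono ((j ∣_ O) ≫ O.ι) := by rw [morphismRestrict_ι]; infer_instance
  haveI : Mono (j ∣_ O) := mono_of_mono (j ∣_ O) O.ι
  haveI : IsSplitEpi (j ∣_ O) := IsSplitEpi.mk' ⟨σ', hs⟩
  haveI : IsIso (j ∣_ O) := isIso_of_mono_of_isSplitEpi _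
  rw [← morphismRestrict_ι]
  infer_instance

variable [IsDomain R] [IsDiscreteValuationRing R] (K : Type u) [Field K] [Algebra R K] [IsFractionRing R K]
  [GrpObj G] [IsAffine G.left] [Smooth G.hom] [HenselianLocalRing R] [IsAlgClosed (IsLocalRing.ResidueField R)]
  (e : Red.bc (Spec.map (CommRingCat.ofHom (algebraMap R K))) G ≅ Red.Ga (Spec (CommRingCat.of K)))
  [IsMonHom e.hom]

omit [IsDiscreteValuationRing R] [HenselianLocalRing R] [IsAlgClosed (IsLocalRing.ResidueField R)] in
theorem valR_str (z : 𝟙_ (Over (Spec (CommRingCat.of R))) ⟶ G) (r : R) : valR G z (str G r) = r := by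
  show (Scheme.ΓSpecIso (CommRingCat.of R)).hom (z.left.appTop (str G r)) = r
  rw [appTop_str]
  show (Scheme.ΓSpecIso _).hom (Scheme.Hom.appTop (𝟙 (Spec (CommRingCat.of R)))
    ((Scheme.ΓSpecIso (CommRingCat.of R)).inv r)) = _
  exact Iso.inv_hom_id_apply _ _

include K e in
/-- An open subgroup isomorphic to the additive group. -/
theorem exists_open_ga [IsCommMonObj G] :
    ∃ j : Red.Ga (Spec (CommRingCat.of R)) ⟶ G, IsMonHom j ∧ IsOpenImmersion j.left := by
  obtain ⟨ϖ, hϖ⟩ := IsDiscreteValuationRing.exists_irreducible R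
  obtain ⟨t, s₀, hs₀, ht, hdvd⟩ := exists_ga_coord K G e hϖ
  obtain ⟨φ, hφm, hφ⟩ := exists_ga_hom K G e ht
  obtain ⟨hcinj, hcsurj⟩ := bijective_ev_gaC K G e
  haveI : IsNoetherianRing Γ(G.left, ⊤) := by
    haveI : IsLocallyNoetherian G.left := LocallyOfFiniteType.isLocallyNoetherian G.hom
    exact IsLocallyNoetherian.component_noetherian ⟨⊤, isAffineOpen_top G.left⟩
  haveI : IsDomain Γ((Red.bc (Spec.map (CommRingCat.ofHom (algebraMap R K))) G).left, ⊤) :=
    (RingEquiv.ofBijective _ (bijective_ev_gaC K G e)).symm.toMulEquiv.isDomain _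
  haveI : IsDomain Γ(G.left, ⊤) := (toBc_injective G K).isDomain _
  obtain ⟨f, hf, hfC⟩ := exists_neighbour_fn G
  have ht0 : t ≠ 0 := fun h => hdvd (h ▸ dvd_zero _)
  have hvt : valR G 1 t = 0 := by
    show (Scheme.ΓSpecIso (CommRingCat.of R)).hom ((1 : 𝟙_ _ ⟶ G).left.appTop t) = 0
    rw [← hφ, ← SGA3cLib.gaFn_comp, MonObj.one_comp φ, SGA3cLib.gaFn_one, map_zero]
  obtain ⟨D⟩ := exists_scaled hϖ (str G) (pv G) (pv_str G) f (fun a h => dvd_of_forall_pv G hϖ h) 1 hf
    (valR G 1) (valR_str G 1) (fun a => by rw [← pv_redPt, map_one]) (irreducible_fn G hfC) t ht0 hvt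
    (eval₂_injective G K hs₀ ht hcinj) (fun a => by
      obtain ⟨Q, hQ⟩ := hcsurj (toBc G (algebraMap R K) a)
      exact exists_poly G K hϖ hs₀ ht a Q hQ.symm)
  let Y := Red.Ga (Spec (CommRingCat.of R))
  haveI : Smooth Y.hom := smooth_ga _
  haveI : IsAffine Y.left := isAffine_ga R
  let coord : Γ(Y.left, ⊤) := Red.gaFn (𝟙 Y)
  let ev : R[X] →+* Γ(Y.left, ⊤) := eval₂RingHom (str Y) coord
  have hev : ∀ Q, ev Q = eval₂ (str Y) coord Q := fun _ => rfl
  have hcoord : ∀ {T : Over (Spec (CommRingCat.of R))} (q : T ⟶ Y), q.left.appTop coord = Red.gaFn q := fun q => by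
    rw [← SGA3cLib.gaFn_comp, Category.comp_id]
  obtain ⟨j, hj⟩ := exists_hom (T := Y) (X := G) (ev.comp D.β) fun r => by
    rw [RingHom.comp_apply, D.β_str, hev, eval₂_C]
  have hjt : ∀ {T : Over (Spec (CommRingCat.of R))} (q : T ⟶ Y),
      (q ≫ j).left.appTop t = str T (ϖ ^ D.j) * Red.gaFn q := fun q => by
    show q.left.appTop (j.left.appTop t) = _
    rw [hj, RingHom.comp_apply, D.β_t, hev, eval₂_mul, eval₂_C, eval₂_X, map_mul, appTop_str, hcoord]
  haveI : IsMonHom j := isMonHom_of_generic Y K j fun T a b => by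
    let g := Spec.map (CommRingCat.ofHom (algebraMap R K))
    refine (SGA3cLib.BCPoints.pt g G T).injective ((cancel_mono e.hom).1 (SGA3cLib.gaFn_injective ?_))
    have key : ∀ q : (Over.map g).obj T ⟶ Y, GaGmQuot.cst T s₀ * Red.gaFn (SGA3cLib.BCPoints.pt g G T (q ≫ j) ≫ e.hom)
        = str ((Over.map g).obj T) (ϖ ^ D.j) * Red.gaFn q := fun q => by
      rw [← hjt q, ← appTop_pt G K (q ≫ j), ht, map_mul, GaGmQuot.appTop_cst, gaC, SGA3cLib.gaFn_comp]
    have hu : IsUnit (GaGmQuot.cst T s₀) := (IsUnit.mk0 _ hs₀).map _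
    refine hu.mul_left_cancel ?_
    rw [key, SGA3cLib.BCPoints.pt_mul, MonObj.mul_comp _ _ e.hom, SGA3cLib.gaFn_mul, SGA3cLib.gaFn_mul, mul_add,
      mul_add, key, key]
  haveI : Mono j := ⟨fun {T} a b hab => by
    have hd : (a * b⁻¹) ≫ j = 1 := by
      rw [MonObj.mul_comp _ _ j, GrpObj.inv_comp b j, hab, mul_inv_cancel]
    obtain ⟨a', k, hw⟩ := D.witness
    have hval : ∀ q : T ⟶ Y,
        (q ≫ j).left.appTop a' = Red.gaFn q * (q ≫ j).left.appTop f ^ k := fun q => by
      show q.left.appTop (j.left.appTop a') = Red.gaFn q * (q.left.appTop (j.left.appTop f)) ^ k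
      rw [hj, hj, RingHom.comp_apply, RingHom.comp_apply, hw, map_mul, map_pow, map_mul, map_pow, ← hcoord q, hev,
        eval₂_X]
    have h1 := hval (a * b⁻¹)
    have h2 := hval 1
    rw [hd] at h1
    rw [MonObj.one_comp j, SGA3cLib.gaFn_one, zero_mul] at h2
    rw [h2] at h1
    have hfu : IsUnit ((1 : T ⟶ G).left.appTop f) := by
      have h : IsUnit (valR G 1 f) := by
        by_contra hn
        exact hf (by
          rw [← map_one (redPt G), pv_redPt]
          exact (IsLocalRing.residue_eq_zero_iff _).2 hn)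
      have h' : IsUnit ((1 : 𝟙_ (Over (Spec (CommRingCat.of R))) ⟶ G).left.appTop f) :=
        (MulEquiv.isUnit_map (Scheme.ΓSpecIso (CommRingCat.of R)).commRingCatIsoToRingEquiv).1 h
      rw [← MonObj.comp_one (toUnit T)]
      exact h'.map (toUnit T).left.appTop.hom
    exact mul_inv_eq_one.1 (SGA3cLib.gaFn_injective
      (((hfu.pow k).mul_left_eq_zero.1 h1.symm).trans SGA3cLib.gaFn_one.symm))⟩
  refine ⟨j, inferInstance, ?_⟩
  -- open pieces over which the map has a section
  have hsec : ∀ (g : Γ(G.left, ⊤)) (L : Type u) [CommRing L] [Algebra Γ(G.left, ⊤) L]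
      [IsLocalization.Away g L] (c : L), (∀ a, algebraMap Γ(G.left, ⊤) L a =
        eval₂ ((algebraMap Γ(G.left, ⊤) L).comp (str G)) c (D.β a)) →
      IsOpenImmersion ((j.left ⁻¹ᵁ G.left.basicOpen g).ι ≫ j.left) := fun g L _ _ _ c hc => by
    let O := G.left.basicOpen g
    let T : Over (Spec (CommRingCat.of R)) := Over.mk (O.ι ≫ G.hom)
    let res : Γ(G.left, ⊤) →+* Γ(T.left, ⊤) := O.ι.appTop.hom
    have hresg : IsUnit (res g) := by
      refine RingedSpace.isUnit_of_isUnit_germ T.left.toRingedSpace ⊤ _ fun x hx => ?_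
      refine (RingedSpace.mem_top_basicOpen T.left.toRingedSpace (O.ι.appTop g) x).1 ?_
      show x ∈ T.left.basicOpen (O.ι.appTop g)
      rw [← Scheme.preimage_basicOpen_top]
      exact x.2
    let Ψ : L →+* Γ(T.left, ⊤) := IsLocalization.Away.lift g hresg
    have hΨ : ∀ a, Ψ (algebraMap Γ(G.left, ⊤) L a) = res a := fun a => IsLocalization.Away.lift_eq g hresg a
    let ιG : T ⟶ G := Over.homMk O.ι rfl
    obtain ⟨q, hq⟩ := SGA3cLib.exists_gaFn (S := Spec (CommRingCat.of R)) (X := T) (Ψ c)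
    have hσ : q ≫ j = ιG := by
      refine hom_ext_of_appTop fun a => ?_
      show q.left.appTop (j.left.appTop a) = res a
      rw [hj, RingHom.comp_apply, hev, hom_eval₂, ← hΨ, hc a, hom_eval₂]
      congr 1
      · refine RingHom.ext fun r => ?_
        simp only [RingHom.comp_apply, hΨ]
        exact (appTop_str Y q r).trans (appTop_str G ιG r).symm
    haveI : Mono j.left := inferInstance
    exact isOpenImmersion_restrict_of_section j.left O q.left (congrArg CommaMorphism.left hσ)
  have hV : IsOpenImmersion ((j.left ⁻¹ᵁ G.left.basicOpen f).ι ≫ j.left) :=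
    hsec f (Localization.Away f) D.s D.algebraMap_eq
  have hVK : IsOpenImmersion ((j.left ⁻¹ᵁ G.left.basicOpen (str G ϖ)).ι ≫ j.left) := by
    let g := str G ϖ
    let al := algebraMap Γ(G.left, ⊤) (Localization.Away g)
    have hu : IsUnit (al (str G (ϖ ^ D.j))) := by
      rw [map_pow, map_pow]
      exact (IsLocalization.Away.algebraMap_isUnit g).pow _
    refine hsec g (Localization.Away g) (↑hu.unit⁻¹ * al t) fun a => ?_
    have h := congrArg al (D.scaleRoots_eq a)
    rw [hom_eval₂] at h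
    have hsc := scaleRoots_eval₂_mul (p := D.β a) (al.comp (str G)) (↑hu.unit⁻¹ * al t) (ϖ ^ D.j)
    rw [← _root_.mul_assoc, RingHom.comp_apply, IsUnit.mul_val_inv, _root_.one_mul] at hsc
    rw [hsc, map_mul, map_pow] at h
    exact (hu.pow _).mul_left_cancel h
  -- flatness everywhere
  haveI : IsLocallyNoetherian G.left := LocallyOfFiniteType.isLocallyNoetherian G.hom
  haveI : LocallyOfFiniteType j.left := by
    haveI : LocallyOfFiniteType (j.left ≫ G.hom) := by rw [Over.w]; infer_instance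
    exact locallyOfFiniteType_of_comp j.left G.hom
  haveI : LocallyOfFinitePresentation j.left := LocallyOfFinitePresentation.iff_locallyOfFiniteType.2 inferInstance
  let V : Y.left.Opens := j.left ⁻¹ᵁ G.left.basicOpen f
  let good : Y.left.Opens := ⨆ (U : Y.left.Opens) (_ : Flat (U.ι ≫ j.left)), U
  have hgood : ∀ (x : Y.left) (U : Y.left.Opens), Flat (U.ι ≫ j.left) → x ∈ U → x ∈ good := fun x U hU hx =>
    TopologicalSpace.Opens.mem_iSup.2 ⟨U, TopologicalSpace.Opens.mem_iSup.2 ⟨hU, hx⟩⟩
  have htop : good = ⊤ := by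
    by_contra hne
    have hne' : ((good : Set Y.left)ᶜ).Nonempty := Set.nonempty_compl.2 fun h => hne (SetLike.coe_injective h)
    obtain ⟨x, hx, hxc⟩ := good.isOpen.isClosed_compl.exists_closed_singleton hne'
    refine hx ?_
    by_cases hxK : x ∈ Y.left.basicOpen (str Y ϖ)
    · refine hgood x _ inferInstance (?_ : x ∈ j.left ⁻¹ᵁ G.left.basicOpen (str G ϖ))
      rw [Scheme.preimage_basicOpen_top, appTop_str]
      exact hxK
    -- `x` lies on the special fibre
    let r := Spec.map (CommRingCat.ofHom (IsLocalRing.residue R))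
    have hxs : Y.hom.base x = IsLocalRing.closedPoint R := by
      refine PrimeSpectrum.ext ?_
      have hmem : ϖ ∈ (Y.hom.base x).asIdeal := by
        by_contra hn
        refine hxK ?_
        show x ∈ Y.left.basicOpen (Y.hom.appTop ((Scheme.ΓSpecIso (CommRingCat.of R)).inv ϖ))
        rw [← Scheme.preimage_basicOpen_top, basicOpen_eq_of_affine]
        show Y.hom.base x ∈ PrimeSpectrum.basicOpen _
        exact hn
      refine (((IsLocalRing.maximalIdeal.isMaximal R)).eq_of_le (Y.hom.base x).isPrime.ne_top ?_).symm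
      rw [hϖ.maximalIdeal_eq, Ideal.span_singleton_le_iff_mem]
      exact hmem
    haveI : IsClosedImmersion r := IsClosedImmersion.spec_of_surjective _ IsLocalRing.residue_surjective
    haveI : IsClosedImmersion (pullback.fst Y.hom r) := MorphismProperty.pullback_fst _ _ ‹IsClosedImmersion r›
    obtain ⟨w, hw⟩ : x ∈ Set.range (pullback.fst Y.hom r).base := by
      rw [Scheme.Pullback.range_fst]
      exact ⟨default, HenselLib.SectionsLift.residue_default.trans hxs.symm⟩
    have hwc : IsClosed ({w} : Set (pullback Y.hom r : Scheme.{u})) := by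
      have h := hxc.preimage (pullback.fst Y.hom r).continuous
      rwa [← hw, ← Set.image_singleton, Set.preimage_image_eq _ (pullback.fst Y.hom r).isClosedEmbedding.injective] at h
    haveI : LocallyOfFiniteType (Red.bc r Y).hom := MorphismProperty.pullback_snd Y.hom r inferInstance
    obtain ⟨y, hy⟩ := exists_pImg (Red.bc r Y) w hwc
    obtain ⟨z, hz⟩ := redPt_surjective Y y
    have hzx : z.left.base (IsLocalRing.closedPoint R) = x := by
      have h : (redPt Y z).left ≫ pullback.fst Y.hom r = r ≫ z.left := by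
        simp [redPt, resPt, SGA3cLib.BCPoints.pt, Over.mapPullbackAdj]
        exact pullback.lift_fst _ _ _
      rw [← hw, ← hy, ← hz]
      show _ = (pullback.fst Y.hom r).base ((redPt Y z).left.base _)
      rw [← Scheme.Hom.comp_apply, h, Scheme.Hom.comp_apply]
      congr 1
      exact (IsLocalRing.comap_closedPoint (IsLocalRing.residue R)).symm
    -- translate
    let τ : Y ⟶ Y := 𝟙 Y * (toUnit Y ≫ z⁻¹)
    let τ₂ : G ⟶ G := 𝟙 G * (toUnit G ≫ (z ≫ j))
    let τi : Y ⟶ Y := 𝟙 Y * (toUnit Y ≫ z)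
    have htu : ∀ {A B : Over (Spec (CommRingCat.of R))} (k : A ⟶ B) {C : Over (Spec (CommRingCat.of R))}
        (c : 𝟙_ _ ⟶ C), k ≫ toUnit B ≫ c = toUnit A ≫ c := fun k _ c => by
      rw [← Category.assoc, toUnit_unique (k ≫ toUnit _) (toUnit _)]
    have hττ : τ ≫ τi = 𝟙 Y := by
      simp only [τ, τi, MonObj.comp_mul, Category.comp_id, htu, GrpObj.comp_inv, inv_mul_cancel_right]
    have hττ' : τi ≫ τ = 𝟙 Y := by
      simp only [τ, τi, MonObj.comp_mul, Category.comp_id, htu, GrpObj.comp_inv]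
      rw [_root_.mul_assoc, mul_inv_cancel, _root_.mul_one]
    have hcomm : j = τ ≫ j ≫ τ₂ := by
      simp only [τ, τ₂, MonObj.comp_mul, Category.comp_id, htu, MonObj.mul_comp _ _ j, Category.id_comp,
        Category.assoc, GrpObj.inv_comp, GrpObj.comp_inv, inv_mul_cancel_right]
    haveI : IsIso τ.left :=
      ⟨τi.left, congrArg CommaMorphism.left hττ, congrArg CommaMorphism.left hττ'⟩
    have hτ₂ : IsIso τ₂.left := by
      let τ₃ : G ⟶ G := 𝟙 G * (toUnit G ≫ (z ≫ j)⁻¹)
      have h1 : τ₂ ≫ τ₃ = 𝟙 G := by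
        simp only [τ₂, τ₃, MonObj.comp_mul, Category.comp_id, htu, GrpObj.comp_inv, mul_inv_cancel_right]
      have h2 : τ₃ ≫ τ₂ = 𝟙 G := by
        simp only [τ₂, τ₃, MonObj.comp_mul, Category.comp_id, htu, GrpObj.comp_inv, inv_mul_cancel_right]
      exact ⟨τ₃.left, congrArg CommaMorphism.left h1, congrArg CommaMorphism.left h2⟩
    refine hgood x (τ.left ⁻¹ᵁ V) ?_ ?_
    · haveI : Flat (V.ι ≫ j.left) := inferInstance
      have e' : (τ.left ⁻¹ᵁ V).ι ≫ j.left = (τ.left ∣_ V) ≫ (V.ι ≫ j.left) ≫ τ₂.left := by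
        conv_lhs => rw [hcomm, Over.comp_left, Over.comp_left]
        rw [← morphismRestrict_ι_assoc τ.left V]
        simp only [Category.assoc]
      rw [e']
      infer_instance
    · show τ.left.base x ∈ V
      rw [← hzx]
      have hz1 : z ≫ τ = 1 := by
        simp only [τ, MonObj.comp_mul, Category.comp_id, htu, GrpObj.comp_inv]
        rw [toUnit_unique (toUnit (𝟙_ _)) (𝟙 _), Category.id_comp, mul_inv_cancel]
      show (z ≫ τ).left.base (IsLocalRing.closedPoint R) ∈ V
      rw [hz1]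
      show (((1 : 𝟙_ (Over (Spec (CommRingCat.of R))) ⟶ Y) ≫ j).left.base (IsLocalRing.closedPoint R)) ∈
        G.left.basicOpen f
      rw [MonObj.one_comp j]
      have h1 := (plc_mem_basicOpen_iff G 1 f).2 hf
      have h : (redPt G 1).left ≫ pullback.fst G.hom r = r ≫ (1 : 𝟙_ (Over (Spec (CommRingCat.of R))) ⟶ G).left := by
        simp [redPt, resPt, SGA3cLib.BCPoints.pt, Over.mapPullbackAdj]
        exact pullback.lift_fst _ _ _
      have e1 : plc G 1 = (1 : 𝟙_ (Over (Spec (CommRingCat.of R))) ⟶ G).left.base (IsLocalRing.closedPoint R) := by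
        rw [← map_one (redPt G)]
        show (pullback.fst G.hom r).base ((redPt G 1).left.base _) = _
        rw [← Scheme.Hom.comp_apply, h, Scheme.Hom.comp_apply]
        congr 1
        exact IsLocalRing.comap_closedPoint (IsLocalRing.residue R)
      rwa [e1] at h1
  haveI : Flat j.left := by
    have hcov : TopologicalSpace.IsOpenCover (fun U : {U : Y.left.Opens // Flat (U.ι ≫ j.left)} => U.1) := by
      refine top_le_iff.1 (htop.ge.trans (iSup₂_le fun U hU => le_iSup_of_le ⟨U, hU⟩ le_rfl))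
    exact IsZariskiLocalAtSource.of_iSup_eq_top _ hcov fun U => U.2
  exact IsOpenImmersion.of_flat_of_mono j.left

end Groth.Agent.NeronModel27
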