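import Groth.Agent.SGA3cLib.BCPoints
import Groth.Agent.AbVarLib.DenseExt
import Groth.Agent.AbVarLib.PowEtale
import Groth.Agent.HenselLib.SectionsLift
import Groth.Prelude.Def_Red2

/-!
# Points of smooth groups over a henselian local ring: reduction, generic restriction, torsion lifting
-/

set_option autoImplicit false
set_option backward.isDefEq.respectTransparency.types false
set_option linter.style.haveILetI false

universe u

open CategoryTheory Limits MonoidalCategory CartesianMonoidalCategory AlgebraicGeometry MonObj GrpObj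

noncomputable section

namespace Groth.Agent.NeronModel27

variable {R : Type u} [CommRing R]

/-- The test object of a base point. -/
abbrev tst {S S' : Scheme.{u}} (f : S' ⟶ S) : Over S := (Over.map f).obj (𝟙_ (Over S'))

/-- The map to the unit object. -/
def tstTo {S S' : Scheme.{u}} (f : S' ⟶ S) : tst f ⟶ 𝟙_ (Over S) :=
  Over.homMk f (by show f ≫ 𝟙 S = 𝟙 S' ≫ f; rw [Category.comp_id, Category.id_comp])

/-- Restriction of sections to a point of the base. -/
def resPt {S S' : Scheme.{u}} (f : S' ⟶ S) (G : Over S) [GrpObj G] :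
    (𝟙_ (Over S) ⟶ G) →* (𝟙_ (Over S') ⟶ Red.bc f G) where
  toFun x := SGA3cLib.BCPoints.pt f G _ (tstTo f ≫ x)
  map_one' := by
    rw [MonObj.comp_one]
    exact map_one (MonoidHom.mk' (SGA3cLib.BCPoints.pt f G (𝟙_ (Over S'))) (SGA3cLib.BCPoints.pt_mul f))
  map_mul' x y := by rw [MonObj.comp_mul, SGA3cLib.BCPoints.pt_mul]

theorem resPt_comp {S S' : Scheme.{u}} (f : S' ⟶ S) {G H : Over S} [GrpObj G] [GrpObj H] (u : G ⟶ H)
    (x : 𝟙_ (Over S) ⟶ G) : resPt f H (x ≫ u) = resPt f G x ≫ (Over.pullback f).map u := by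
  show SGA3cLib.BCPoints.pt f H _ (tstTo f ≫ x ≫ u) = _
  rw [← Category.assoc, SGA3cLib.BCPoints.pt_comp]
  rfl

theorem resPt_eq_iff {S S' : Scheme.{u}} (f : S' ⟶ S) {G : Over S} [GrpObj G] (x y : 𝟙_ (Over S) ⟶ G) :
    resPt f G x = resPt f G y ↔ f ≫ x.left = f ≫ y.left :=
  ⟨fun h => congrArg CommaMorphism.left ((SGA3cLib.BCPoints.pt f G _).injective h),
    fun h => congrArg (SGA3cLib.BCPoints.pt f G _) (Over.OverMorphism.ext h)⟩

/-- Restriction to the generic point is injective on sections of separated groups. -/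
theorem resPt_generic_injective [IsDomain R] (K : Type u) [Field K] [Algebra R K] [IsFractionRing R K]
    (G : Over (Spec (CommRingCat.of R))) [GrpObj G] [IsSeparated G.hom] :
    Function.Injective (resPt (Spec.map (CommRingCat.ofHom (algebraMap R K))) G) := fun x y h => by
  let g := Spec.map (CommRingCat.ofHom (algebraMap R K))
  have : IsSchemeTheoreticallyDominant g :=
    Groth.Agent.LieSLib.isSchemeTheoreticallyDominant_spec _ (IsFractionRing.injective R K)
  have h' : g ≫ x.left = g ≫ y.left := (resPt_eq_iff g x y).1 h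
  refine Over.OverMorphism.ext (AbVarLib.ext_of_isSchemeTheoreticallyDominant g (𝟙 _) G.hom x.left y.left
    (Over.w x) (Over.w y) h')

section Lift

variable [HenselianLocalRing R]

/-- The reduction of sections. -/
abbrev redPt (G : Over (Spec (CommRingCat.of R))) [GrpObj G] :=
  resPt (Spec.map (CommRingCat.ofHom (IsLocalRing.residue R))) G

/-- Reduction of sections of smooth groups is surjective. -/
theorem redPt_surjective (G : Over (Spec (CommRingCat.of R))) [GrpObj G] [Smooth G.hom] :
    Function.Surjective (redPt G) := fun y => by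
  let r := Spec.map (CommRingCat.ofHom (IsLocalRing.residue R))
  let a := (SGA3cLib.BCPoints.pt r G _).symm y
  obtain ⟨s, hs, hst⟩ := HenselLib.SectionsLift.exists_section G.hom a.left
    ((Over.w a).trans (Category.id_comp r))
  refine ⟨Over.homMk s hs, ?_⟩
  show SGA3cLib.BCPoints.pt r G _ _ = y
  rw [← (SGA3cLib.BCPoints.pt r G _).apply_symm_apply y]
  exact congrArg _ (Over.OverMorphism.ext hst)

/-- Torsion points of the special fibre lift to torsion sections. -/
theorem exists_torsion_lift (G : Over (Spec (CommRingCat.of R))) [GrpObj G] [IsCommMonObj G] [Smooth G.hom]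
    {n : ℕ} (hn : IsUnit (n : R)) (y : 𝟙_ (Over (Spec (CommRingCat.of (IsLocalRing.ResidueField R)))) ⟶
      Red.bc (Spec.map (CommRingCat.ofHom (IsLocalRing.residue R))) G) (hy : y ^ n = 1) :
    ∃ x : 𝟙_ (Over (Spec (CommRingCat.of R))) ⟶ G, x ^ n = 1 ∧ redPt G x = y := by
  let r := Spec.map (CommRingCat.ofHom (IsLocalRing.residue R))
  let u : G ⟶ G := (𝟙 G : G ⟶ G) ^ n
  haveI : Etale u.left := by
    have h : IsUnit ((n : ℤ) : Γ(Spec (CommRingCat.of R), ⊤)) := by
      have h' := hn.map (Scheme.ΓSpecIso (CommRingCat.of R)).inv.hom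
      rwa [map_natCast, ← Int.cast_natCast] at h'
    have h2 := AbVarLib.etale_zpow G (n : ℤ) h
    rwa [zpow_natCast] at h2
  let a := (SGA3cLib.BCPoints.pt r G _).symm y
  have hone : ∀ (T : Over (Spec (CommRingCat.of R))), (1 : T ⟶ G).left = T.hom ≫ η[G].left := fun T => by
    rw [Hom.one_def, Over.comp_left]
    exact congrArg (· ≫ η[G].left) ((Category.comp_id _).symm.trans (Over.w (toUnit T)))
  have ha : a ≫ u = 1 := by
    rw [MonObj.comp_pow, Category.comp_id]
    refine (SGA3cLib.BCPoints.pt r G _).injective ?_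
    have e := map_pow (MonoidHom.mk' (SGA3cLib.BCPoints.pt r G (𝟙_ _)) (SGA3cLib.BCPoints.pt_mul r)) a n
    have e1 := map_one (MonoidHom.mk' (SGA3cLib.BCPoints.pt r G (𝟙_ _)) (SGA3cLib.BCPoints.pt_mul r))
    simp only [MonoidHom.mk'_apply] at e e1
    rw [e, e1, Equiv.apply_symm_apply, hy]
  have ha' : a.left ≫ u.left = r ≫ η[G].left := by
    rw [← Over.comp_left, ha, hone]
    exact congrArg (· ≫ η[G].left) (Category.id_comp r)
  let p := pullback.snd u.left η[G].left
  obtain ⟨s, hs, hst⟩ := HenselLib.SectionsLift.exists_section p (pullback.lift a.left r ha') (pullback.lift_snd _ _ _)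
  have hsu : (s ≫ pullback.fst u.left η[G].left) ≫ u.left = η[G].left := by
    rw [Category.assoc, pullback.condition, ← Category.assoc, hs, Category.id_comp]
  let x : 𝟙_ (Over (Spec (CommRingCat.of R))) ⟶ G := Over.homMk (s ≫ pullback.fst u.left η[G].left) (by
    show (s ≫ pullback.fst u.left η[G].left) ≫ G.hom = 𝟙 _
    rw [← Over.w u, ← Category.assoc, hsu]
    exact Over.w η[G])
  refine ⟨x, ?_, ?_⟩
  · have h : x ≫ u = 1 := by
      refine Over.OverMorphism.ext ?_
      rw [Over.comp_left, hone]
      show (s ≫ pullback.fst u.left η[G].left) ≫ u.left = 𝟙 _ ≫ η[G].left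
      rw [hsu, Category.id_comp]
    rwa [MonObj.comp_pow, Category.comp_id] at h
  · show SGA3cLib.BCPoints.pt r G _ _ = y
    rw [← (SGA3cLib.BCPoints.pt r G _).apply_symm_apply y]
    refine congrArg _ (Over.OverMorphism.ext ?_)
    show r ≫ s ≫ pullback.fst u.left η[G].left = a.left
    rw [reassoc_of% hst, pullback.lift_fst]

end Lift

/-- A flat separated group with commutative generic fibre is commutative. -/
theorem isCommMonObj_of_generic [IsDomain R] (K : Type u) [Field K] [Algebra R K] [IsFractionRing R K]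
    (G : Over (Spec (CommRingCat.of R))) [GrpObj G] [Flat G.hom] [IsSeparated G.hom]
    (h : ∀ (T : Over (Spec (CommRingCat.of K))) (a b : T ⟶ Red.bc (Spec.map (CommRingCat.ofHom (algebraMap R K))) G),
      a * b = b * a) : IsCommMonObj G := by
  haveI : Flat (G ⊗ G).hom := by
    rw [Over.tensorObj_hom]
    infer_instance
  have key : fst G G * snd G G = snd G G * fst G G := by
    refine AbVarLib.eq_of_generic R K ?_
    rw [Functor.map_mul, Functor.map_mul]
    exact h _ _ _
  constructor
  have h1 : (β_ G G).hom ≫ μ[G] = snd G G * fst G G := by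
    rw [CategoryTheory.Hom.mul_def]
    congr 1
  rw [h1, ← key, CategoryTheory.Hom.mul_def, lift_fst_snd, Category.id_comp]

/-- A group monomorphically mapped to a commutative one is commutative on points. -/
theorem comm_of_iso {S : Scheme.{u}} {G H : Over S} [GrpObj G] [GrpObj H] (e : G ≅ H) [IsMonHom e.hom]
    (hH : ∀ (T : Over S) (a b : T ⟶ H), a * b = b * a) (T : Over S) (a b : T ⟶ G) : a * b = b * a := by
  rw [← cancel_mono e.hom, MonObj.mul_comp, MonObj.mul_comp]
  exact hH T _ _

end Groth.Agent.NeronModel27
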