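import Groth.Agent.NeronModel27.Ring
import Groth.Agent.NeronModel27.Points
import Groth.Agent.GaGmQuot.GaSmooth
import Mathlib.RingTheory.UniqueFactorizationDomain.Multiplicity

/-!
# Coordinates on affine models
-/

set_option autoImplicit false
set_option backward.isDefEq.respectTransparency.types false
set_option linter.style.haveILetI false

universe u

open CategoryTheory Limits MonoidalCategory CartesianMonoidalCategory AlgebraicGeometry MonObj GrpObj
open Polynomial

noncomputable section

namespace Groth.Agent.NeronModel27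

section Algebra

variable {R : Type u} [CommRing R] [IsDomain R] [IsDiscreteValuationRing R] {ϖ : R} (hϖ : Irreducible ϖ)
  {A : Type u} [CommRing A] (sA : R →+* A) (hnzd : ∀ a, sA ϖ * a = 0 → a = 0)

include hϖ hnzd in
/-- If a function has infinitely many residual values, polynomials in it are saturated. -/
theorem exists_eq_eval₂ {P : Type*} (pv : P → A →+* IsLocalRing.ResidueField R)
    (hpv : ∀ y r, pv y (sA r) = IsLocalRing.residue R r) {t : A} (hinf : (Set.range fun y => pv y t).Infinite) :
    ∀ (m : ℕ) (a : A) (Q : R[X]), sA ϖ ^ m * a = Q.eval₂ sA t → ∃ Q' : R[X], a = Q'.eval₂ sA t := by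
  intro m
  induction m with
  | zero => exact fun a Q h => ⟨Q, by rwa [pow_zero, _root_.one_mul] at h⟩
  | succ m ih =>
    intro a Q h
    have hcomp : ∀ y, (pv y).comp sA = IsLocalRing.residue R := fun y => RingHom.ext (hpv y)
    have hQ : Q.map (IsLocalRing.residue R) = 0 := by
      refine eq_zero_of_infinite_isRoot _ (hinf.mono ?_)
      rintro _ ⟨y, rfl⟩
      show (Q.map (IsLocalRing.residue R)).eval (pv y t) = 0
      have h' := congrArg (pv y) h
      rw [map_mul, map_pow, hpv, (IsLocalRing.residue_eq_zero_iff ϖ).2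
        (hϖ.maximalIdeal_eq ▸ Ideal.mem_span_singleton_self ϖ), zero_pow (Nat.succ_ne_zero m), zero_mul,
        hom_eval₂, hcomp] at h'
      rw [Polynomial.eval_map]
      exact h'.symm
    obtain ⟨Q₁, rfl⟩ : C ϖ ∣ Q := by
      rw [C_dvd_iff_dvd_coeff]
      intro i
      have hi := congrArg (fun q => q.coeff i) hQ
      rw [coeff_map, coeff_zero, IsLocalRing.residue_eq_zero_iff, hϖ.maximalIdeal_eq,
        Ideal.mem_span_singleton] at hi
      exact hi
    refine ih a Q₁ (sub_eq_zero.1 (hnzd _ ?_))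
    rw [mul_sub, sub_eq_zero, eval₂_mul, eval₂_C] at *
    rw [← h, pow_succ]
    ring

end Algebra

variable {R : Type u} [CommRing R] (G : Over (Spec (CommRingCat.of R)))

section Values

variable [IsLocalRing R]

/-- The value of a function at a rational point of the special fibre. -/
def pv (y : 𝟙_ (Over (Spec (CommRingCat.of (IsLocalRing.ResidueField R)))) ⟶
    Red.bc (Spec.map (CommRingCat.ofHom (IsLocalRing.residue R))) G) :
    Γ(G.left, ⊤) →+* IsLocalRing.ResidueField R :=
  ((Scheme.ΓSpecIso (CommRingCat.of (IsLocalRing.ResidueField R))).hom.hom.comp y.left.appTop.hom).comp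
    (toBc G (IsLocalRing.residue R))

theorem pv_str (y : 𝟙_ (Over (Spec (CommRingCat.of (IsLocalRing.ResidueField R)))) ⟶
    Red.bc (Spec.map (CommRingCat.ofHom (IsLocalRing.residue R))) G) (r : R) :
    pv G y (str G r) = IsLocalRing.residue R r := by
  show (Scheme.ΓSpecIso _).hom (y.left.appTop (toBc G _ (str G r))) = _
  rw [str_comp, appTop_str]
  show (Scheme.ΓSpecIso _).hom (Scheme.Hom.appTop (𝟙 (Spec (CommRingCat.of (IsLocalRing.ResidueField R))))
    ((Scheme.ΓSpecIso (CommRingCat.of (IsLocalRing.ResidueField R))).inv (IsLocalRing.residue R r))) = _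
  exact Iso.inv_hom_id_apply _ _

theorem pv_surjective_aux {a : Γ(G.left, ⊤)}
    {y : 𝟙_ (Over (Spec (CommRingCat.of (IsLocalRing.ResidueField R)))) ⟶
      Red.bc (Spec.map (CommRingCat.ofHom (IsLocalRing.residue R))) G} (h : pv G y a = 0) :
    y.left.appTop (toBc G (IsLocalRing.residue R) a) = 0 :=
  (map_eq_zero_iff _ (ConcreteCategory.injective_of_mono_of_preservesPullback
    (Scheme.ΓSpecIso (CommRingCat.of (IsLocalRing.ResidueField R))).hom)).1 h

variable [IsDomain R] [IsDiscreteValuationRing R] [IsAffine G.left] [IsAlgClosed (IsLocalRing.ResidueField R)]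
  [Smooth G.hom]

/-- A function vanishing at all rational points of the special fibre is divisible by the uniformiser. -/
theorem dvd_of_forall_pv {ϖ : R} (hϖ : Irreducible ϖ) {a : Γ(G.left, ⊤)} (h : ∀ y, pv G y a = 0) :
    str G ϖ ∣ a := by
  have h1 := mem_of_forall_point G fun y => pv_surjective_aux G (h y)
  rw [hϖ.maximalIdeal_eq, Ideal.map_span, Set.image_singleton, Ideal.mem_span_singleton] at h1
  exact h1

end Values

section Generic

variable (K : Type u) [Field K] [Algebra R K]

local notation "GK" => Red.bc (Spec.map (CommRingCat.ofHom (algebraMap R K))) G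

theorem toBc_eval₂ (t : Γ(G.left, ⊤)) (P : R[X]) :
    toBc G (algebraMap R K) (P.eval₂ (str G) t) =
      GaGmQuot.ev GK (toBc G (algebraMap R K) t) (P.map (algebraMap R K)) := by
  rw [hom_eval₂, GaGmQuot.ev, coe_eval₂RingHom, eval₂_map]
  refine congrArg (fun f => eval₂ f _ P) (RingHom.ext fun r => ?_)
  exact str_comp G _ r

variable [IsDomain R] [IsDiscreteValuationRing R] [IsFractionRing R K] [Flat G.hom]

/-- A rescaled coordinate still generates up to powers of the uniformiser. -/
theorem exists_poly {ϖ : R} (hϖ : Irreducible ϖ) {t : Γ(G.left, ⊤)} {c₀ : Γ((GK).left, ⊤)} {s : K} (hs : s ≠ 0)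
    (ht : toBc G (algebraMap R K) t = GaGmQuot.cst GK s * c₀) (a : Γ(G.left, ⊤)) (Q : K[X])
    (hQ : toBc G (algebraMap R K) a = GaGmQuot.ev GK c₀ Q) :
    ∃ (m : ℕ) (P : R[X]), str G ϖ ^ m * a = P.eval₂ (str G) t := by
  obtain ⟨b, hb, hP⟩ := IsLocalization.integerNormalization_spec (nonZeroDivisors R) (Q.comp (C s⁻¹ * X))
  obtain ⟨n, w, hw⟩ := IsDiscreteValuationRing.eq_unit_mul_pow_irreducible (nonZeroDivisors.ne_zero hb) hϖ
  let P := IsLocalization.integerNormalization (nonZeroDivisors R) (Q.comp (C s⁻¹ * X))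
  refine ⟨n, C ((w⁻¹ : Rˣ) : R) * P, toBc_injective G K ?_⟩
  rw [toBc_eval₂, Polynomial.map_mul, map_C, hP, Algebra.smul_def, Polynomial.algebraMap_apply, ← _root_.mul_assoc,
    ← C_mul, ← map_mul, hw, Units.inv_mul_cancel_left, map_mul, map_mul, map_pow, toBc_str, hQ, map_pow,
    GaGmQuot.ev_C, map_pow]
  congr 1
  show _ = GaGmQuot.ev GK (toBc G (algebraMap R K) t) (Q.comp (C s⁻¹ * X))
  show _ = eval₂ (GaGmQuot.cst GK) (toBc G (algebraMap R K) t) (Q.comp (C s⁻¹ * X))
  rw [eval₂_comp, eval₂_mul, eval₂_C, eval₂_X, ht, ← _root_.mul_assoc, ← map_mul, inv_mul_cancel₀ hs, map_one,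
    _root_.one_mul]
  rfl

omit [IsDiscreteValuationRing R] [Flat G.hom] in
/-- A coordinate that generates freely on the generic fibre does so on the model. -/
theorem eval₂_injective {t : Γ(G.left, ⊤)} {c₀ : Γ((GK).left, ⊤)} {s : K} (hs : s ≠ 0)
    (ht : toBc G (algebraMap R K) t = GaGmQuot.cst GK s * c₀) (hc : Function.Injective (GaGmQuot.ev GK c₀)) :
    Function.Injective (eval₂RingHom (str G) t) := by
  refine (injective_iff_map_eq_zero _).2 fun P hP => ?_
  have h := congrArg (toBc G (algebraMap R K)) hP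
  rw [coe_eval₂RingHom, toBc_eval₂, map_zero, ht] at h
  have h2 : GaGmQuot.ev GK c₀ ((P.map (algebraMap R K)).comp (C s * X)) = 0 := by
    show eval₂ (GaGmQuot.cst GK) c₀ _ = 0
    rw [eval₂_comp, eval₂_mul, eval₂_C, eval₂_X]
    exact h
  have h3 := congrArg (fun q => q.comp (C s⁻¹ * X)) ((map_eq_zero_iff _ hc).1 h2)
  simp only [Polynomial.comp_assoc, Polynomial.zero_comp] at h3
  rw [Polynomial.mul_comp, C_comp, X_comp, ← _root_.mul_assoc, ← C_mul, mul_inv_cancel₀ hs, C_1, _root_.one_mul, comp_X,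
    Polynomial.map_eq_zero_iff (IsFractionRing.injective R K)] at h3
  exact h3

end Generic

/-- A morphism to an affine scheme over the base from a map of rings. -/
theorem exists_hom {T X : Over (Spec (CommRingCat.of R))} [IsAffine X.left] (φ : Γ(X.left, ⊤) →+* Γ(T.left, ⊤))
    (h : ∀ c, φ (str X c) = str T c) : ∃ g : T ⟶ X, ∀ d, g.left.appTop d = φ d := by
  let g : T.left ⟶ X.left := T.left.toSpecΓ ≫ Spec.map (CommRingCat.ofHom φ) ≫ X.left.isoSpec.inv
  have hinv : X.left.isoSpec.inv.appTop = (Scheme.ΓSpecIso Γ(X.left, ⊤)).inv := by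
    haveI : IsIso X.left.isoSpec.hom.appTop := (inferInstance : IsIso (X.left.isoSpec.hom.app ⊤))
    rw [← cancel_mono (X.left.isoSpec.hom.appTop), ← Scheme.Hom.comp_appTop]
    simp [Scheme.isoSpec]
  have hg : g.appTop = CommRingCat.ofHom φ := by
    simp only [g, Scheme.Hom.comp_appTop, hinv, Category.assoc, Scheme.toSpecΓ_appTop]
    rw [Scheme.ΓSpecIso_naturality]
    exact Iso.inv_hom_id_assoc _ _
  have hw : g ≫ X.hom = T.hom := ext_of_isAffine (by
    rw [Scheme.Hom.comp_appTop, hg, ← cancel_epi (Scheme.ΓSpecIso (CommRingCat.of R)).inv]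
    exact CommRingCat.hom_ext (RingHom.ext h))
  exact ⟨Over.homMk g hw, fun d => congrArg (fun m : Γ(X.left, ⊤) ⟶ Γ(T.left, ⊤) => m d) hg⟩

/-- Endomorphisms of an affine scheme over the base are determined on functions. -/
theorem hom_ext_of_appTop {T X : Over (Spec (CommRingCat.of R))} [IsAffine X.left] {g g' : T ⟶ X}
    (h : ∀ d, g.left.appTop d = g'.left.appTop d) : g = g' :=
  Over.OverMorphism.ext (ext_of_isAffine (CommRingCat.hom_ext (RingHom.ext h)))

section Generator

variable [GrpObj G] [IsDomain R] (K : Type u) [Field K] [Algebra R K] [IsFractionRing R K] [Flat G.hom]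

local notation "g" => Spec.map (CommRingCat.ofHom (algebraMap R K))

omit [GrpObj G] [IsDomain R] [IsFractionRing R K] [Flat G.hom] in
/-- The value of a point through the generic fibre. -/
theorem appTop_pt {T : Over (Spec (CommRingCat.of K))} (a : (Over.map g).obj T ⟶ G) (t : Γ(G.left, ⊤)) :
    (SGA3cLib.BCPoints.pt g G T a).left.appTop (toBc G (algebraMap R K) t) = a.left.appTop t := by
  have h : (SGA3cLib.BCPoints.pt g G T a).left ≫ pullback.fst G.hom g = a.left := by
    simp [SGA3cLib.BCPoints.pt, Over.mapPullbackAdj]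
    exact pullback.lift_fst _ _ _
  show ((pullback.fst G.hom g).appTop ≫ (SGA3cLib.BCPoints.pt g G T a).left.appTop) t = _
  rw [← Scheme.Hom.comp_appTop, h]

/-- A morphism to a separated group that is multiplicative above the generic point is a homomorphism. -/
theorem isMonHom_of_generic {H : Over (Spec (CommRingCat.of R))} [GrpObj H] [IsSeparated H.hom] (φ : G ⟶ H)
    (h : ∀ (T : Over (Spec (CommRingCat.of K))) (a b : (Over.map g).obj T ⟶ G), (a * b) ≫ φ = (a ≫ φ) * (b ≫ φ)) :
    IsMonHom φ := by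
  haveI : IsSchemeTheoreticallyDominant g :=
    Groth.Agent.LieSLib.isSchemeTheoreticallyDominant_spec _ (IsFractionRing.injective R K)
  have ext : ∀ (U : Over (Spec (CommRingCat.of R))) [Flat U.hom] (a b : U ⟶ H),
      (∀ (T : Over (Spec (CommRingCat.of K))) (q : (Over.map g).obj T ⟶ U), q ≫ a = q ≫ b) → a = b := by
    intro U _ a b hab
    let T := (Over.pullback g).obj U
    let q : (Over.map g).obj T ⟶ U := (Over.mapPullbackAdj g).counit.app U
    refine Over.OverMorphism.ext (AbVarLib.ext_of_isSchemeTheoreticallyDominant (pullback.fst U.hom g) U.hom H.hom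
      a.left b.left (Over.w a) (Over.w b) ?_)
    have h' := congrArg CommaMorphism.left (hab T q)
    simpa [q, T, Over.mapPullbackAdj] using h'
  have hmul : ∀ (U : Over (Spec (CommRingCat.of R))) [Flat U.hom] (a b : U ⟶ G),
      (a * b) ≫ φ = (a ≫ φ) * (b ≫ φ) := fun U _ a b => ext U _ _ fun T q => by
    rw [← Category.assoc, MonObj.comp_mul, h, MonObj.comp_mul, Category.assoc, Category.assoc]
  haveI : Flat (𝟙_ (Over (Spec (CommRingCat.of R)))).hom := inferInstanceAs (Flat (𝟙 _))
  haveI : Flat (G ⊗ G).hom := by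
    rw [Over.tensorObj_hom]
    infer_instance
  have hone : (1 : 𝟙_ _ ⟶ G) ≫ φ = 1 := by
    have h1 := hmul (𝟙_ _) 1 1
    rw [_root_.one_mul] at h1
    exact left_eq_mul.1 h1
  refine ⟨?_, ?_⟩
  · rw [show η[G] = (1 : 𝟙_ _ ⟶ G) by
      rw [Hom.one_def, toUnit_unique (toUnit (𝟙_ _)) (𝟙 _), Category.id_comp], hone,
      Hom.one_def, toUnit_unique (toUnit (𝟙_ _)) (𝟙 _), Category.id_comp]
  · have h2 := hmul (G ⊗ G) (fst G G) (snd G G)
    rw [Hom.mul_def, Hom.mul_def, lift_fst_snd, Category.id_comp, ← lift_map, lift_fst_snd, Category.id_comp] at h2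
    exact h2

end Generator

end Groth.Agent.NeronModel27
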