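import Groth.Agent.SGA3cLib.BCPoints
import Groth.Agent.AbVarLib.DenseExt
import Groth.Agent.AbSchLib.SmoothReduced
import Mathlib.AlgebraicGeometry.Morphisms.Affine
import Mathlib.AlgebraicGeometry.AlgClosed.Basic
import Mathlib.RingTheory.Localization.Integral
import Mathlib.RingTheory.DiscreteValuationRing.Basic

/-!
# The coordinate ring of an affine scheme over a discrete valuation ring and of its two fibres
-/

set_option autoImplicit false
set_option backward.isDefEq.respectTransparency.types false
set_option linter.style.haveILetI false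

universe u

open CategoryTheory Limits AlgebraicGeometry

noncomputable section

namespace Groth.Agent.NeronModel27

/-- Bounded denominators from the universal property of the generic fibre. -/
theorem exists_pow_mul_of_desc {R : Type u} [CommRing R] [IsDomain R] [IsDiscreteValuationRing R] {ϖ : R}
    (hϖ : Irreducible ϖ) (K : Type u) [Field K] [Algebra R K] [IsFractionRing R K] {A B : Type u} [CommRing A]
    [CommRing B] (sA : R →+* A) (tB : A →+* B) (sB : K →+* B) (hcompat : ∀ r, tB (sA r) = sB (algebraMap R K r))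
    (hdesc : ∀ {D : Type u} [CommRing D] (a : A →+* D) (c : K →+* D), a.comp sA = c.comp (algebraMap R K) →
      ∃ d : B →+* D, d.comp tB = a ∧ d.comp sB = c)
    (hext : ∀ (u v : B →+* B), u.comp tB = v.comp tB → u.comp sB = v.comp sB → u = v) (c : B) :
    ∃ (m : ℕ) (a : A), tB (sA ϖ ^ m) * c = tB a := by
  have hu : ∀ r : nonZeroDivisors R, IsUnit (((algebraMap A (Localization.Away (sA ϖ))).comp sA) r) := fun r => by
    obtain ⟨n, w, hw⟩ := IsDiscreteValuationRing.eq_unit_mul_pow_irreducible (nonZeroDivisors.ne_zero r.2) hϖ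
    rw [RingHom.comp_apply, hw, map_mul, map_pow, map_mul, map_pow]
    exact ((w.isUnit.map _).map _).mul ((IsLocalization.Away.algebraMap_isUnit (sA ϖ)).pow n)
  obtain ⟨d, hd1, hd2⟩ := hdesc (algebraMap A (Localization.Away (sA ϖ))) (IsLocalization.lift hu)
    (RingHom.ext fun r => (IsLocalization.lift_eq (S := K) hu r).symm)
  have hunit : IsUnit (tB (sA ϖ)) := by
    rw [hcompat]
    exact (IsUnit.mk0 _ ((map_ne_zero_iff _ (IsFractionRing.injective R K)).2 hϖ.ne_zero)).map _
  let h : Localization.Away (sA ϖ) →+* B := IsLocalization.Away.lift (sA ϖ) hunit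
  have hh : ∀ a, h (algebraMap A _ a) = tB a := fun a => IsLocalization.Away.lift_eq _ hunit a
  have hid : h.comp d = RingHom.id _ := by
    refine hext _ _ ?_ (IsLocalization.ringHom_ext (nonZeroDivisors R) ?_)
    · rw [RingHom.comp_assoc, hd1]
      exact RingHom.ext hh
    · refine RingHom.ext fun r => ?_
      show h (d (sB (algebraMap R K r))) = sB (algebraMap R K r)
      rw [show d (sB (algebraMap R K r)) = IsLocalization.lift (S := K) hu (algebraMap R K r) from
        DFunLike.congr_fun hd2 _, IsLocalization.lift_eq, RingHom.comp_apply, hh, hcompat]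
  obtain ⟨⟨a, ⟨_, m, rfl⟩⟩, hda⟩ := IsLocalization.surj (Submonoid.powers (sA ϖ)) (d c)
  refine ⟨m, a, ?_⟩
  have := congrArg h hda
  rw [map_mul, hh, hh, ← RingHom.comp_apply h d, hid, RingHom.id_apply] at this
  rw [mul_comm]
  exact this

variable {R : Type u} [CommRing R] (G : Over (Spec (CommRingCat.of R)))

/-- The base ring inside global functions. -/
def str : R →+* Γ(G.left, ⊤) :=
  ((Scheme.ΓSpecIso (CommRingCat.of R)).inv ≫ G.hom.appTop).hom

/-- Restriction of functions to a base change. -/
def toBc {C : Type u} [CommRing C] (φ : R →+* C) :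
    Γ(G.left, ⊤) →+* Γ((Red.bc (Spec.map (CommRingCat.ofHom φ)) G).left, ⊤) :=
  (pullback.fst G.hom (Spec.map (CommRingCat.ofHom φ))).appTop.hom

theorem str_comp {C : Type u} [CommRing C] (φ : R →+* C) (r : R) :
    toBc G φ (str G r) = str (Red.bc (Spec.map (CommRingCat.ofHom φ)) G) (φ r) := by
  show (pullback.fst G.hom (Spec.map (CommRingCat.ofHom φ))).appTop (G.hom.appTop _) = _
  rw [← CommRingCat.comp_apply, ← Scheme.Hom.comp_appTop, pullback.condition, Scheme.Hom.comp_appTop,
    CommRingCat.comp_apply]
  refine congrArg _ ?_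
  exact congrArg (fun m : CommRingCat.of R ⟶ _ => m r) (Scheme.ΓSpecIso_inv_naturality (CommRingCat.ofHom φ)).symm

theorem appTop_str {T : Over (Spec (CommRingCat.of R))} (g : T ⟶ G) (r : R) : g.left.appTop (str G r) = str T r := by
  show (G.hom.appTop ≫ g.left.appTop) _ = _
  rw [← Scheme.Hom.comp_appTop, Over.w g]
  rfl

variable [IsAffine G.left]

/-- A cocone under the square of functions factors through the functions of the base change. -/
theorem exists_desc {C D : Type u} [CommRing C] [CommRing D] (φ : R →+* C) (a : Γ(G.left, ⊤) →+* D) (c : C →+* D)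
    (h : a.comp (str G) = c.comp φ) :
    ∃ d : Γ((Red.bc (Spec.map (CommRingCat.ofHom φ)) G).left, ⊤) →+* D, d.comp (toBc G φ) = a ∧
      d.comp (str (Red.bc (Spec.map (CommRingCat.ofHom φ)) G)) = c := by
  let f := Spec.map (CommRingCat.ofHom φ)
  have hp := isPushout_appTop_of_isPullback (IsPullback.of_hasPullback G.hom f)
  let ι₁ := Scheme.ΓSpecIso (CommRingCat.of C)
  have w : G.hom.appTop ≫ CommRingCat.ofHom a = f.appTop ≫ (ι₁.hom ≫ CommRingCat.ofHom c) := by
    rw [← cancel_epi (Scheme.ΓSpecIso (CommRingCat.of R)).inv, ← Category.assoc f.appTop,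
      Scheme.ΓSpecIso_naturality, Category.assoc, Iso.inv_hom_id_assoc]
    exact CommRingCat.hom_ext h
  refine ⟨(hp.desc (CommRingCat.ofHom a) (ι₁.hom ≫ CommRingCat.ofHom c) w).hom,
    RingHom.ext fun x => ?_, RingHom.ext fun x => ?_⟩
  · exact congrArg (fun m : _ ⟶ CommRingCat.of D => m x) (hp.inl_desc _ _ w)
  · have h2 := congrArg (fun m : _ ⟶ CommRingCat.of D => m (ι₁.inv x)) (hp.inr_desc _ _ w)
    refine Eq.trans h2 ?_
    show c (ι₁.hom (ι₁.inv x)) = c x
    rw [Iso.inv_hom_id_apply]

/-- Maps out of the functions of a base change. -/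
theorem bc_hom_ext {C D : Type u} [CommRing C] [CommRing D] (φ : R →+* C)
    {u v : Γ((Red.bc (Spec.map (CommRingCat.ofHom φ)) G).left, ⊤) →+* D}
    (h1 : u.comp (toBc G φ) = v.comp (toBc G φ))
    (h2 : u.comp (str (Red.bc (Spec.map (CommRingCat.ofHom φ)) G)) =
      v.comp (str (Red.bc (Spec.map (CommRingCat.ofHom φ)) G))) : u = v := by
  let f := Spec.map (CommRingCat.ofHom φ)
  have hp := isPushout_appTop_of_isPullback (IsPullback.of_hasPullback G.hom f)
  have h : CommRingCat.ofHom u = CommRingCat.ofHom v := by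
    refine hp.hom_ext (CommRingCat.hom_ext h1) ?_
    rw [← cancel_epi (Scheme.ΓSpecIso (CommRingCat.of C)).inv]
    exact CommRingCat.hom_ext h2
  exact congrArg CommRingCat.Hom.hom h

/-- Functions vanishing on the fibre over a quotient lie in the extended ideal. -/
theorem mem_of_toBc_eq_zero {C : Type u} [CommRing C] (φ : R →+* C) (hφ : Function.Surjective φ)
    {a : Γ(G.left, ⊤)} (ha : toBc G φ a = 0) : a ∈ (RingHom.ker φ).map (str G) := by
  let I := (RingHom.ker φ).map (str G)
  let g₀ : { g : R →+* Γ(G.left, ⊤) ⧸ I // RingHom.ker φ ≤ RingHom.ker g } :=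
    ⟨(Ideal.Quotient.mk I).comp (str G), fun r hr => by
      rw [RingHom.mem_ker, RingHom.comp_apply, Ideal.Quotient.eq_zero_iff_mem]
      exact Ideal.mem_map_of_mem _ hr⟩
  obtain ⟨d, hd, -⟩ := exists_desc G φ (Ideal.Quotient.mk I) (RingHom.liftOfSurjective φ hφ g₀)
    (RingHom.ext fun r => (RingHom.liftOfSurjective_comp_apply φ hφ g₀ r).symm)
  rw [← Ideal.Quotient.eq_zero_iff_mem, ← hd, RingHom.comp_apply, ha, map_zero]

section DVR

variable [IsDomain R] [IsDiscreteValuationRing R] [Flat G.hom] {ϖ : R} (hϖ : Irreducible ϖ)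
  (K : Type u) [Field K] [Algebra R K] [IsFractionRing R K]

omit [IsAffine G.left] [IsDomain R] [IsDiscreteValuationRing R] [Flat G.hom] in
theorem toBc_str (r : R) : toBc G (algebraMap R K) (str G r) =
    str (Red.bc (Spec.map (CommRingCat.ofHom (algebraMap R K))) G) (algebraMap R K r) := str_comp G _ r

omit [IsAffine G.left] [IsDiscreteValuationRing R] in
/-- Restriction to the generic fibre is injective. -/
theorem toBc_injective : Function.Injective (toBc G (algebraMap R K)) := by
  let g := Spec.map (CommRingCat.ofHom (algebraMap R K))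
  haveI : IsSchemeTheoreticallyDominant g :=
    Groth.Agent.LieSLib.isSchemeTheoreticallyDominant_spec _ (IsFractionRing.injective R K)
  haveI : IsAffineHom g := isAffineHom_of_isAffine g
  haveI : IsAffineHom (pullback.fst G.hom g) := MorphismProperty.pullback_fst _ _ ‹IsAffineHom g›
  haveI : QuasiCompact (pullback.fst G.hom g) := inferInstance
  haveI : IsSchemeTheoreticallyDominant (pullback.fst G.hom g) := inferInstance
  exact Scheme.Hom.app_injective (pullback.fst G.hom g) ⊤

include hϖ in
/-- Functions on the generic fibre have bounded denominators. -/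
theorem exists_pow_mul_eq (c : Γ((Red.bc (Spec.map (CommRingCat.ofHom (algebraMap R K))) G).left, ⊤)) :
    ∃ (m : ℕ) (a : Γ(G.left, ⊤)), toBc G (algebraMap R K) (str G ϖ ^ m) * c = toBc G (algebraMap R K) a :=
  exists_pow_mul_of_desc hϖ K (str G) (toBc G (algebraMap R K))
    (str (Red.bc (Spec.map (CommRingCat.ofHom (algebraMap R K))) G)) (toBc_str G K)
    (fun a c h => exists_desc G (algebraMap R K) a c h)
    (fun u v h1 h2 => bc_hom_ext G (algebraMap R K) h1 h2) c

end DVR

section Special

variable [IsLocalRing R] [IsAlgClosed (IsLocalRing.ResidueField R)] [Smooth G.hom]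

/-- A function killed by all rational points of the special fibre is divisible by the maximal ideal. -/
theorem mem_of_forall_point {a : Γ(G.left, ⊤)}
    (h : ∀ y : CategoryTheory.MonoidalCategoryStruct.tensorUnit
        (Over (Spec (CommRingCat.of (IsLocalRing.ResidueField R)))) ⟶
        Red.bc (Spec.map (CommRingCat.ofHom (IsLocalRing.residue R))) G,
      y.left.appTop (toBc G (IsLocalRing.residue R) a) = 0) :
    a ∈ (IsLocalRing.maximalIdeal R).map (str G) := by
  let κ := IsLocalRing.ResidueField R
  let H := Red.bc (Spec.map (CommRingCat.ofHom (IsLocalRing.residue R))) G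
  let b := toBc G (IsLocalRing.residue R) a
  haveI : Smooth H.hom := MorphismProperty.pullback_snd G.hom _ inferInstance
  haveI : IsReduced H.left := AbSchLib.isReduced_of_smooth H.hom
  haveI : JacobsonSpace H.left := LocallyOfFiniteType.jacobsonSpace H.hom
  rw [← IsLocalRing.ker_residue (R := R)]
  refine mem_of_toBc_eq_zero G _ IsLocalRing.residue_surjective (eq_zero_of_basicOpen_eq_bot b ?_)
  by_contra hne
  obtain ⟨z, hz, hzc⟩ := nonempty_inter_closedPoints (Z := (H.left.basicOpen b : Set H.left))
    (by rwa [Set.nonempty_iff_ne_empty, Ne, TopologicalSpace.Opens.coe_eq_empty])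
    (H.left.basicOpen b).isOpen.isLocallyClosed
  let y : CategoryTheory.MonoidalCategoryStruct.tensorUnit (Over (Spec (CommRingCat.of κ))) ⟶ H :=
    Over.homMk (pointOfClosedPoint H.hom z hzc) (pointOfClosedPoint_comp _ _ _)
  have hy : IsLocalRing.closedPoint κ ∈ y.left ⁻¹ᵁ H.left.basicOpen b := by
    show y.left (IsLocalRing.closedPoint κ) ∈ H.left.basicOpen b
    rw [show y.left (IsLocalRing.closedPoint κ) = z from pointOfClosedPoint_apply _ _ _ _]
    exact hz
  rw [Scheme.preimage_basicOpen_top, h y, Scheme.basicOpen_zero] at hy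
  exact hy

end Special

end Groth.Agent.NeronModel27
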