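import Groth.Agent.NeronModel27.Model
import Mathlib.RingTheory.Polynomial.ScaleRoots

/-!
# Rescaling a coordinate on a neighbourhood of the identity of the special fibre
-/

set_option autoImplicit false
set_option backward.isDefEq.respectTransparency.types false
set_option linter.style.haveILetI false

universe u

open Polynomial

noncomputable section

namespace Groth.Agent.NeronModel27

variable {R : Type u} [CommRing R] [IsDomain R] [IsDiscreteValuationRing R] {ϖ : R} (hϖ : Irreducible ϖ)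
  {A : Type u} [CommRing A] (sA : R →+* A) {P : Type u} (pv : P → A →+* IsLocalRing.ResidueField R)
  (hpv : ∀ y r, pv y (sA r) = IsLocalRing.residue R r) (f : A)

/-- The data of a rescaled coordinate. -/
structure Scaled (ϖ : R) (t : A) where
  /-- The exponent. -/
  j : ℕ
  /-- The expansion. -/
  β : A →+* R[X]
  /-- The coordinate. -/
  s : Localization.Away f
  scaleRoots_eq : ∀ a, sA (ϖ ^ j) ^ (β a).natDegree * a = eval₂ sA t ((β a).scaleRoots (ϖ ^ j))
  β_t : β t = C (ϖ ^ j) * X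
  β_str : ∀ r, β (sA r) = C r
  algebraMap_eq : ∀ a, algebraMap A (Localization.Away f) a =
    eval₂ ((algebraMap A (Localization.Away f)).comp sA) s (β a)
  witness : ∃ (a' : A) (k : ℕ), β a' = X * β f ^ k

include hϖ hpv in
/-- Finitely many residual values force the rescaled coordinate to be constant. -/
theorem infinite_of_irreducible
    (hirr : ∀ a b : A, (∃ y, pv y (a * f) ≠ 0) → (∃ y, pv y (b * f) ≠ 0) → ∃ y, pv y (a * b * f) ≠ 0)
    (a' : A) (k : ℕ) (h0 : ∃ y, pv y f ≠ 0 ∧ pv y a' = 0) (h1 : ∃ y, pv y f ≠ 0 ∧ pv y a' ≠ 0) :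
    (Set.range fun y : {y : P // pv y f ≠ 0} => pv y.1 a' / pv y.1 f ^ k).Infinite := by
  classical
  intro hfin
  let S := hfin.toFinset
  have hex : ∀ T : Finset (IsLocalRing.ResidueField R), ∃ a : A, (∃ y, pv y (a * f) ≠ 0) ∧
      ∀ y, pv y f ≠ 0 → pv y a ≠ 0 → pv y a' / pv y f ^ k ∉ T := by
    intro T
    induction T using Finset.induction with
    | empty =>
      obtain ⟨y, hy, -⟩ := h0
      exact ⟨1, ⟨y, by rwa [_root_.one_mul]⟩, fun y _ _ => by simp⟩
    | insert c T hc ih =>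
      obtain ⟨a, ha, haT⟩ := ih
      obtain ⟨r, hr⟩ := IsLocalRing.residue_surjective c
      have hb : ∀ y, pv y f ≠ 0 → (pv y (a' - sA r * f ^ k) = 0 ↔ pv y a' / pv y f ^ k = c) := fun y hy => by
        rw [map_sub, map_mul, map_pow, hpv, hr, sub_eq_zero, div_eq_iff (pow_ne_zero _ hy)]
      have hex : ∃ y, pv y ((a' - sA r * f ^ k) * f) ≠ 0 := by
        obtain ⟨y, hy, hya⟩ : ∃ y, pv y f ≠ 0 ∧ pv y a' / pv y f ^ k ≠ c := by
          obtain ⟨y₀, hy₀, hy₀a⟩ := h0
          obtain ⟨y₁, hy₁, hy₁a⟩ := h1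
          by_cases hc0 : c = 0
          · exact ⟨y₁, hy₁, by rw [hc0]; exact div_ne_zero hy₁a (pow_ne_zero _ hy₁)⟩
          · exact ⟨y₀, hy₀, by rw [hy₀a, zero_div]; exact fun h => hc0 h.symm⟩
        exact ⟨y, by rw [map_mul]; exact mul_ne_zero (fun h => hya ((hb y hy).1 h)) hy⟩
      refine ⟨a * (a' - sA r * f ^ k), hirr _ _ ha hex, fun y hy hne => ?_⟩
      rw [map_mul, mul_ne_zero_iff] at hne
      rw [Finset.mem_insert, not_or]
      exact ⟨fun h => hne.2 ((hb y hy).2 h), haT y hy hne.1⟩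
  obtain ⟨a, ⟨y, hy⟩, hS⟩ := hex S
  rw [map_mul, mul_ne_zero_iff] at hy
  exact hS y hy.2 hy.1 (hfin.mem_toFinset.2 ⟨⟨y, hy.2⟩, rfl⟩)

variable [IsDomain A] [IsNoetherianRing A]

include hϖ hpv in
/-- A rescaled coordinate near the identity. -/
theorem exists_scaled (hsep : ∀ a, (∀ y, pv y a = 0) → sA ϖ ∣ a) (y₀ : P) (hf : pv y₀ f ≠ 0) (v₀ : A →+* R)
    (hv₀ : ∀ r, v₀ (sA r) = r) (hv₀y : ∀ a, IsLocalRing.residue R (v₀ a) = pv y₀ a)
    (hirr : ∀ a b : A, (∃ y, pv y (a * f) ≠ 0) → (∃ y, pv y (b * f) ≠ 0) → ∃ y, pv y (a * b * f) ≠ 0)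
    (t : A) (ht0 : t ≠ 0) (hvt : v₀ t = 0) (hinj : Function.Injective (eval₂RingHom sA t))
    (hgen : ∀ a, ∃ (m : ℕ) (Q : R[X]), sA ϖ ^ m * a = eval₂ sA t Q) :
    Nonempty (Scaled sA f ϖ t) := by
  have hf0 : f ≠ 0 := fun h => hf (by rw [h, map_zero])
  have hle : Submonoid.powers f ≤ nonZeroDivisors A := powers_le_nonZeroDivisors_of_noZeroDivisors hf0
  haveI : IsDomain (Localization.Away f) := IsLocalization.isDomain_localization hle
  haveI : IsNoetherianRing (Localization.Away f) :=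
    IsLocalization.isNoetherianRing (Submonoid.powers f) (Localization.Away f) inferInstance
  let ι := algebraMap A (Localization.Away f)
  have hιinj : Function.Injective ι := IsLocalization.injective _ hle
  let sL := ι.comp sA
  have hu : IsUnit (v₀ f) := by
    by_contra h
    exact hf (by rw [← hv₀y]; exact (IsLocalRing.residue_eq_zero_iff _).2 h)
  let w₀ : Localization.Away f →+* R := IsLocalization.Away.lift f hu
  have hw₀ : ∀ a, w₀ (ι a) = v₀ a := fun a => IsLocalization.Away.lift_eq f hu a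
  have hϖ0 : IsLocalRing.residue R ϖ = 0 :=
    (IsLocalRing.residue_eq_zero_iff ϖ).2 (hϖ.maximalIdeal_eq ▸ Ideal.mem_span_singleton_self ϖ)
  have hnu : ¬ IsUnit (sL ϖ) := fun h => hϖ.not_isUnit (by
    have h' := h.map w₀
    rwa [RingHom.comp_apply, hw₀, hv₀] at h')
  obtain ⟨j, s, hs, hts⟩ := WfDvdMonoid.max_power_factor' ((map_ne_zero_iff ι hιinj).2 ht0) hnu
  obtain ⟨⟨a', ⟨_, k, rfl⟩⟩, hsa⟩ := IsLocalization.surj (Submonoid.powers f) s
  have hsv : w₀ s = 0 := by
    have h := congrArg w₀ hts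
    rw [hw₀, hvt, map_mul, map_pow, RingHom.comp_apply, hw₀, hv₀] at h
    exact (mul_eq_zero.1 h.symm).resolve_left (pow_ne_zero _ hϖ.ne_zero)
  have hsv' : v₀ a' = 0 := by
    have h := congrArg w₀ hsa
    rw [map_mul, hsv, zero_mul, hw₀] at h
    exact h.symm
  let pvL : {y : P // pv y f ≠ 0} → Localization.Away f →+* IsLocalRing.ResidueField R := fun y =>
    IsLocalization.Away.lift f (isUnit_iff_ne_zero.2 y.2)
  have hpvι : ∀ y a, pvL y (ι a) = pv y.1 a := fun y a =>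
    IsLocalization.Away.lift_eq f (isUnit_iff_ne_zero.2 y.2) a
  have hpvL : ∀ y r, pvL y (sL r) = IsLocalRing.residue R r := fun y r => by
    rw [RingHom.comp_apply, hpvι, hpv]
  have hpvs : ∀ y, pvL y s = pv y.1 a' / pv y.1 f ^ k := fun y => by
    rw [eq_div_iff (pow_ne_zero _ y.2)]
    have h := congrArg (pvL y) hsa
    rw [map_mul, hpvι, hpvι, map_pow] at h
    exact h
  have h1 : ∃ y, pv y f ≠ 0 ∧ pv y a' ≠ 0 := by
    by_contra h
    push Not at h
    obtain ⟨b, hb⟩ := hsep (a' * f) fun y => by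
      rw [map_mul]
      by_cases hy : pv y f = 0
      · rw [hy, mul_zero]
      · rw [h y hy, zero_mul]
    have hfu : IsUnit (ι f) := IsLocalization.Away.algebraMap_isUnit f
    refine hs ((IsUnit.dvd_mul_right (u := ι (f ^ k) * ι f) ?_).1 ⟨ι b, ?_⟩)
    · rw [map_pow]
      exact (hfu.pow k).mul hfu
    · rw [← _root_.mul_assoc, hsa, ← map_mul, hb, map_mul]
      rfl
  have hinf : (Set.range fun y => pvL y s).Infinite := by
    simp only [hpvs]
    exact infinite_of_irreducible hϖ sA pv hpv f hirr a' k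
      ⟨y₀, hf, by rw [← hv₀y, hsv', map_zero]⟩ h1
  have hnzd : ∀ g, sL ϖ * g = 0 → g = 0 := fun g hg =>
    (mul_eq_zero.1 hg).resolve_left fun h => hϖ.ne_zero (by
      have h' := congrArg w₀ h
      rwa [RingHom.comp_apply, hw₀, hv₀, map_zero] at h')
  have hιeval : ∀ Q : R[X], ι (eval₂ sA t Q) = eval₂ sL (sL (ϖ ^ j) * s) Q := fun Q => by
    rw [hom_eval₂, map_pow, ← hts]
  have hex : ∀ a, ∃ Q, ι a = eval₂ sL s Q := fun a => by
    obtain ⟨m, Q, hQ⟩ := hgen a
    refine exists_eq_eval₂ hϖ sL hnzd pvL hpvL hinf m (ι a) (Q.comp (C (ϖ ^ j) * X)) ?_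
    rw [eval₂_comp, eval₂_mul, eval₂_C, eval₂_X, ← hιeval, ← hQ, map_mul, map_pow, RingHom.comp_apply]
  have hinjs : Function.Injective (eval₂RingHom sL s) := by
    refine (injective_iff_map_eq_zero _).2 fun Q hQ => ?_
    rw [coe_eval₂RingHom] at hQ
    have h : eval₂ sA t (Q.scaleRoots (ϖ ^ j)) = 0 := hιinj (by
      rw [hιeval, scaleRoots_eval₂_mul, hQ, mul_zero, map_zero])
    by_contra hne
    exact scaleRoots_ne_zero hne _ ((injective_iff_map_eq_zero _).1 hinj _ h)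
  choose β hβ using hex
  have hβu : ∀ a Q, ι a = eval₂ sL s Q → β a = Q := fun a Q h => hinjs ((hβ a).symm.trans h)
  let β' : A →+* R[X] :=
    { toFun := β
      map_one' := hβu _ _ (by rw [map_one, eval₂_one])
      map_zero' := hβu _ _ (by rw [map_zero, eval₂_zero])
      map_add' := fun a b => hβu _ _ (by rw [map_add, eval₂_add, ← hβ, ← hβ])
      map_mul' := fun a b => hβu _ _ (by rw [map_mul, eval₂_mul, ← hβ, ← hβ]) }
  have hβt : β t = C (ϖ ^ j) * X := hβu _ _ (by rw [eval₂_mul, eval₂_C, eval₂_X, map_pow, ← hts])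
  have hβs : ∀ r, β (sA r) = C r := fun r => hβu _ _ (by rw [eval₂_C]; rfl)
  refine ⟨⟨j, β', s, fun a => hιinj ?_, hβt, hβs, hβ, a', k, hβu _ _ ?_⟩⟩
  · show ι (sA (ϖ ^ j) ^ (β a).natDegree * a) = ι (eval₂ sA t ((β a).scaleRoots (ϖ ^ j)))
    rw [hιeval, scaleRoots_eval₂_mul, map_mul, map_pow, ← hβ]
    rfl
  · show ι a' = eval₂ sL s (X * β f ^ k)
    rw [eval₂_mul, eval₂_pow, eval₂_X, ← hβ, ← hsa, map_pow]

end Groth.Agent.NeronModel27
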